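import Mathlib
import Cfsg.Agent.Lib.Helper17.Basic

set_option autoImplicit false
set_option linter.unusedSectionVars false
set_option linter.style.haveILetI false

namespace Cfsg.Agent.Lib.Helper17

open Subgroup

/-- if every orbit has size divisible by `n`, then `n` divides the size of the set -/
lemma dvd_card_of_dvd_orbits {A X : Type*} [Group A] [MulAction A X] [Finite X] (n : ℕ)
    (h : ∀ x : X, n ∣ Nat.card (MulAction.orbit A x)) : n ∣ Nat.card X := by
  classical
  have := Fintype.ofFinite (MulAction.orbitRel.Quotient A X)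
  rw [Nat.card_congr (MulAction.selfEquivSigmaOrbits A X), Nat.card_sigma]
  exact Finset.dvd_sum (fun ω _ => h _)

/-- a free action: the order of the group divides the size of the set -/
lemma card_dvd_of_free {A X : Type*} [Group A] [MulAction A X] [Finite X]
    (hfree : ∀ (a : A) (x : X), a • x = x → a = 1) : Nat.card A ∣ Nat.card X := by
  apply dvd_card_of_dvd_orbits (A := A)
  intro x
  have h1 : MulAction.stabilizer A x = ⊥ := by
    rw [eq_bot_iff]
    intro a ha
    exact hfree a x ha
  have h2 := MulAction.index_stabilizer A x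
  rw [h1, Subgroup.index_bot] at h2
  rw [Nat.card_coe_set_eq, ← h2]

/-- The automorphism group of a group of order `p^2` has order dividing `(p^2-1)(p^2-p)`. -/
lemma card_mulAut_dvd_of_card_prime_sq {H : Type*} [Group H] {p : ℕ} (hp : p.Prime)
    (hH : Nat.card H = p ^ 2) : Nat.card (MulAut H) ∣ (p ^ 2 - 1) * (p ^ 2 - p) := by
  classical
  have hfin : Finite H := Nat.finite_of_card_ne_zero (by rw [hH]; exact pow_ne_zero _ hp.ne_zero)
  by_cases hc : IsCyclic H
  · rw [hc.card_mulAut, hH, Nat.totient_prime_pow hp (by norm_num)]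
    have e : p ^ 2 - p = p ^ (2 - 1) * (p - 1) := by
      rw [Nat.mul_sub, mul_one]
      norm_num
      ring_nf
    rw [e]
    exact Dvd.intro_left _ rfl
  · -- non cyclic
    have hord : ∀ a : H, a ≠ 1 → orderOf a = p := by
      intro a ha
      have h1 : orderOf a ∣ p ^ 2 := hH ▸ orderOf_dvd_natCard a
      obtain ⟨k, hk, hk'⟩ := (Nat.dvd_prime_pow hp).mp h1
      interval_cases k
      · rw [pow_zero, orderOf_eq_one_iff] at hk'; exact absurd hk' ha
      · rw [hk', pow_one]
      · exact absurd (isCyclic_of_orderOf_eq_card a (hk'.trans hH.symm)) hc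
    let S := {ab : H × H // ab.1 ≠ 1 ∧ ab.2 ∉ zpowers ab.1}
    have hgen : ∀ ab : S, closure {ab.1.1, ab.1.2} = ⊤ := by
      rintro ⟨⟨a, b⟩, ha, hb⟩
      simp only at ha hb ⊢
      have h1 : zpowers a < closure {a, b} := by
        refine lt_of_le_of_ne ?_ ?_
        · rw [zpowers_le]; exact subset_closure (by simp)
        · intro h
          apply hb
          rw [h]
          exact subset_closure (by simp)
      have h2 : Nat.card (zpowers a) = p := by rw [Nat.card_zpowers, hord a ha]
      have h3 : Nat.card (closure {a, b} : Subgroup H) ∣ p ^ 2 := hH ▸ card_subgroup_dvd_card _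
      obtain ⟨k, hk, hk'⟩ := (Nat.dvd_prime_pow hp).mp h3
      have h4 : p < Nat.card (closure {a, b} : Subgroup H) := by
        rw [← h2]
        exact Set.ncard_lt_ncard (s := (zpowers a : Set H)) (t := (closure {a, b} : Subgroup H)) h1 (Set.toFinite _)
      have hk2 : k = 2 := by
        rw [hk'] at h4
        have : p ^ 1 < p ^ k := by rwa [pow_one]
        have := (Nat.pow_lt_pow_iff_right hp.one_lt).mp this
        omega
      rw [hk2, ← hH] at hk'
      exact eq_top_of_card_eq _ hk'
    letI : MulAction (MulAut H) S :=
      { smul := fun f ab => ⟨(f ab.1.1, f ab.1.2), by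
          refine ⟨by simpa using ab.2.1, ?_⟩
          intro h
          apply ab.2.2
          simp only at h
          obtain ⟨k, hk⟩ := mem_zpowers_iff.mp h
          rw [← map_zpow] at hk
          exact mem_zpowers_iff.mpr ⟨k, f.injective hk⟩⟩
        one_smul := fun ab => rfl
        mul_smul := fun f g ab => rfl }
    have hfree : ∀ (f : MulAut H) (ab : S), f • ab = ab → f = 1 := by
      intro f ab h
      have h1 : f ab.1.1 = ab.1.1 := congrArg (fun x : S => x.1.1) h
      have h2 : f ab.1.2 = ab.1.2 := congrArg (fun x : S => x.1.2) h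
      have h3 : (f : H →* H) = MonoidHom.id H := by
        apply MonoidHom.eq_of_eqOn_dense (hgen ab)
        intro x hx
        simp only [Set.mem_insert_iff, Set.mem_singleton_iff] at hx
        rcases hx with rfl | rfl
        · exact h1
        · exact h2
      ext x
      exact DFunLike.congr_fun h3 x
    have hdvd := card_dvd_of_free hfree
    have hS : Nat.card S = (p ^ 2 - 1) * (p ^ 2 - p) := by
      have e : S ≃ Σ a : {a : H // a ≠ 1}, {b : H // b ∉ zpowers a.1} :=
        { toFun := fun ab => ⟨⟨ab.1.1, ab.2.1⟩, ⟨ab.1.2, ab.2.2⟩⟩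
          invFun := fun s => ⟨(s.1.1, s.2.1), s.1.2, s.2.2⟩
          left_inv := fun ab => rfl
          right_inv := fun s => rfl }
      have := Fintype.ofFinite H
      rw [Nat.card_congr e, Nat.card_sigma]
      have hfib : ∀ a : {a : H // a ≠ 1}, Nat.card {b : H // b ∉ zpowers a.1} = p ^ 2 - p := by
        intro a
        have h2 : Nat.card (zpowers a.1) = p := by rw [Nat.card_zpowers, hord a.1 a.2]
        have h3 : Nat.card {b : H // b ∉ zpowers a.1} = Nat.card H - Nat.card {b : H // b ∈ zpowers a.1} := by
          rw [Nat.card_eq_fintype_card, Nat.card_eq_fintype_card, Nat.card_eq_fintype_card,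
            Fintype.card_subtype_compl]
        rw [h3, hH]
        congr 1
      rw [Finset.sum_congr rfl (fun a _ => hfib a), Finset.sum_const, Finset.card_univ, smul_eq_mul]
      congr 1
      rw [Fintype.card_subtype_compl, Fintype.card_subtype_eq, ← Nat.card_eq_fintype_card, hH]
    rwa [hS] at hdvd

end Cfsg.Agent.Lib.Helper17
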