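import Cfsg.Agent.Lib.Helper36.ChevCent

/-!
# Tools for centralizers of unipotent elements supported on a commuting set of roots (helper17)
-/

set_option autoImplicit false

namespace Cfsg.Agent.Lib.Helper17.CG

open Cfsg.Lie Cfsg.Agent.Lib.Helper18 Cfsg.Agent.Lib.Helper17 Cfsg.Agent.Lib.Helper36
  Cfsg.Agent.Lib.Helper6 Matrix

variable {F : Type*} [Field F] {D : ChevalleyDatum} (hB : Base D F)

theorem conj_mul' {G : Type*} [Group G] (a b x : G) : (a * b) * x * (a * b)⁻¹ = a * (b * x * b⁻¹) * a⁻¹ := by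
  group

theorem conj_eq_one' {G : Type*} [Group G] {y a : G} (h : y * a * y⁻¹ = 1) : a = 1 := by
  have : a = y⁻¹ * (y * a * y⁻¹) * y := by group
  rw [this, h]; group

/-- commutation when all the structure constants vanish in the field -/
theorem comm_dvd {m : ℕ} (hm : (m : F) = 0) {r s : ℕ} (hr : r < D.nroots) (hs : s < D.nroots)
    (h : s = r ∨ (s ≠ r ∧ s ≠ D.neg r ∧ ∀ c ∈ D.commTerms r s, (m : ℤ) ∣ c.2.1)) (t u : F) :
    hB.xg r t * hB.xg s u = hB.xg s u * hB.xg r t := by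
  rcases h with rfl | ⟨h0, h1, h2⟩
  · rw [hB.xg_add, hB.xg_add, add_comm]
  · have h3 := hB.comm_xg hr hs h0 h1 t u
    have h4 : hB.wg (D.commWord F r s t u) = 1 := by
      unfold Base.wg
      apply List.prod_eq_one
      intro x hx
      obtain ⟨p, hp, rfl⟩ := List.mem_map.mp hx
      unfold ChevalleyDatum.commWord at hp
      obtain ⟨c, hc, rfl⟩ := List.mem_map.mp hp
      obtain ⟨k, hk⟩ := h2 c hc
      have : ((c.2.1 : ℤ) : F) = 0 := by
        rw [hk]; push_cast; rw [hm, zero_mul]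
      simp only [this, zero_mul, Base.xg_zero]
    rw [h4, mul_one] at h3
    calc hB.xg r t * hB.xg s u = hB.xg r t * ((hB.xg r t)⁻¹ * hB.xg s u * hB.xg r t) := by rw [h3]
      _ = _ := by group

theorem conj_single {r s k : ℕ} (hr : r < D.nroots) (hs : s < D.nroots) (h1 : s ≠ r)
    (h2 : s ≠ D.neg r) (h : D.commTerms r s = [(k, 1, 1, 1)]) (t u : F) :
    hB.xg r t * hB.xg s u * (hB.xg r t)⁻¹ = hB.xg s u * hB.xg k (t * u) := by
  have h3 := hB.comm_xg hr hs h1 h2 (-t) u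
  have h4 : hB.wg (D.commWord F r s (-t) u) = hB.xg k (t * u) := by
    unfold ChevalleyDatum.commWord
    rw [h]
    simp [Base.wg]
  rw [h4, hB.xg_inv, neg_neg] at h3
  rw [hB.xg_inv]
  exact h3

/-! ### monomial actions -/

/-- `y` permutes the root subgroups according to `π` -/
def GAct (y : GL D.Idx F) (π : ℕ → ℕ) : Prop :=
  ∀ s, s < D.nroots → π s < D.nroots ∧ ∃ η : F, η ≠ 0 ∧ ∀ t : F, y * hB.xg s t * y⁻¹ = hB.xg (π s) (η * t)

theorem GAct.mul {y y' : GL D.Idx F} {π π' : ℕ → ℕ} (h : GAct hB y π) (h' : GAct hB y' π') :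
    GAct hB (y * y') (π ∘ π') := by
  intro s hs
  obtain ⟨h1, η', hη', e'⟩ := h' s hs
  obtain ⟨h2, η, hη, e⟩ := h _ h1
  refine ⟨h2, η * η', mul_ne_zero hη hη', fun t => ?_⟩
  rw [conj_mul', e', e, mul_assoc]
  rfl

theorem gact_nW (hT : Tab D) {L : List ℕ} (hL : ∀ i ∈ L, i < D.rank) : GAct hB (hB.nW L) (wAct D L) := by
  intro s hs
  obtain ⟨η, hη, h⟩ := hB.nW_conj_xg hT hL hs
  exact ⟨hT.wAct_lt hL hs, η, by rcases hη with rfl | rfl <;> simp, h⟩

/-! ### products over a list of roots -/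

/-- `∏_{s ∈ L} x_s(c_s)` -/
def lp (L : List ℕ) (c : ℕ → F) : GL D.Idx F := (L.map fun s => hB.xg s (c s)).prod

@[simp] theorem lp_nil (c : ℕ → F) : lp hB [] c = 1 := rfl

@[simp] theorem lp_cons (k : ℕ) (L : List ℕ) (c : ℕ → F) : lp hB (k :: L) c = hB.xg k (c k) * lp hB L c := by
  simp [lp]

theorem coe_lp (L : List ℕ) (c : ℕ → F) : ((lp hB L c : GL D.Idx F) : Matrix D.Idx D.Idx F) = ordProd D L c := by
  induction L with
  | nil => simp [ordProd_nil]
  | cons k L ih => rw [lp_cons, Units.val_mul, ih, ordProd_cons, Base.coe_xg]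

theorem lp_congr {L : List ℕ} {c c' : ℕ → F} (h : ∀ s ∈ L, c s = c' s) : lp hB L c = lp hB L c' := by
  induction L with
  | nil => rfl
  | cons k L ih =>
    rw [lp_cons, lp_cons, h k (by simp), ih fun s hs => h s (by simp [hs])]

theorem lp_zero (L : List ℕ) : lp hB L (fun _ => (0 : F)) = 1 := by
  induction L with
  | nil => rfl
  | cons k L ih => rw [lp_cons, ih, hB.xg_zero, one_mul]

theorem lp_inj (hD : D ∈ [chevG2, chevB2, chevD4, chevF4, chevE6, chevE7, chevE8]) {L : List ℕ}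
    (hpos : ∀ r ∈ L, D.IsPosRoot r) (hs : L.Pairwise (· < ·)) {c c' : ℕ → F} (h : lp hB L c = lp hB L c') :
    ∀ s ∈ L, c s = c' s := by
  obtain ⟨T', W, hc⟩ := exists_checks D hD
  apply ordProd_inj hc (triOK_of_mem hD) (ordOK_of_mem hD) L hpos hs
  rw [← coe_lp hB, ← coe_lp hB, h]

theorem lp_comm {g : GL D.Idx F} {L : List ℕ} (h : ∀ s ∈ L, ∀ u : F, g * hB.xg s u = hB.xg s u * g) (c : ℕ → F) :
    g * lp hB L c = lp hB L c * g := by
  induction L with
  | nil => simp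
  | cons k L ih =>
    rw [lp_cons, ← mul_assoc, h k (by simp), mul_assoc, ih fun s hs => h s (by simp [hs]), mul_assoc]

/-- pairwise commutation of the root subgroups of a list -/
def PC (L : List ℕ) : Prop := ∀ s ∈ L, ∀ s' ∈ L, ∀ t u : F, hB.xg s t * hB.xg s' u = hB.xg s' u * hB.xg s t

theorem PC.tail {k : ℕ} {L : List ℕ} (h : PC hB (k :: L)) : PC hB L :=
  fun s hs s' hs' => h s (by simp [hs]) s' (by simp [hs'])

theorem lp_split {L : List ℕ} (hcomm : PC hB L) (p : ℕ → Prop) [DecidablePred p] (c : ℕ → F) :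
    lp hB L c = lp hB L (fun s => if p s then c s else 0) * lp hB L (fun s => if p s then 0 else c s) := by
  induction L with
  | nil => simp
  | cons k L ih =>
    rw [lp_cons, lp_cons, lp_cons, ih hcomm.tail]
    by_cases hp : p k
    · simp only [if_pos hp, hB.xg_zero, one_mul, mul_assoc]
    · simp only [if_neg hp, hB.xg_zero, one_mul]
      rw [← mul_assoc, lp_comm hB (fun s hs u => hcomm k (by simp) s (by simp [hs]) _ u), mul_assoc]

theorem lp_conj_mem {y : GL D.Idx F} {π : ℕ → ℕ} (hy : GAct hB y π) (Sg : Subgroup (GL D.Idx F)) {L : List ℕ}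
    (hL : ∀ s ∈ L, s < D.nroots) (c : ℕ → F) (h : ∀ s ∈ L, c s ≠ 0 → ∀ t : F, hB.xg (π s) t ∈ Sg) :
    y * lp hB L c * y⁻¹ ∈ Sg := by
  induction L with
  | nil => simp
  | cons k L ih =>
    have e : y * lp hB (k :: L) c * y⁻¹ = (y * hB.xg k (c k) * y⁻¹) * (y * lp hB L c * y⁻¹) := by
      rw [lp_cons]; group
    rw [e]
    refine mul_mem ?_ (ih (fun s hs => hL s (by simp [hs])) fun s hs => h s (by simp [hs]))
    by_cases hc : c k = 0
    · rw [hc, hB.xg_zero]; simp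
    · obtain ⟨-, η, -, eη⟩ := hy k (hL k (by simp))
      rw [eη]
      exact h k (by simp) hc _

/-- if `y (∏ x_s(c_s)) y⁻¹ ∈ U` then the images of the roots of the support are positive -/
theorem stepG (hD : D ∈ [chevG2, chevB2, chevD4, chevF4, chevE6, chevE7, chevE8]) {y : GL D.Idx F} {π : ℕ → ℕ}
    (hy : GAct hB y π) {S : List ℕ} (hpos : ∀ r ∈ S, D.IsPosRoot r) (hs : S.Pairwise (· < ·)) (hcomm : PC hB S)
    {c : ℕ → F} (hU : y * lp hB S c * y⁻¹ ∈ D.posUnipotent F) : ∀ s ∈ S, c s ≠ 0 → D.IsPosRoot (π s) := by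
  classical
  have hT := tabs2_of_mem hD
  have e := lp_split hB hcomm (fun s => D.IsPosRoot (π s)) c
  have hA : y * lp hB S (fun s => if D.IsPosRoot (π s) then c s else 0) * y⁻¹ ∈ D.posUnipotent F := by
    apply lp_conj_mem hB hy _ (fun s hs => (hpos s hs).1)
    intro s _ h0 t
    by_cases hp : D.IsPosRoot (π s)
    · exact hB.xg_mem_pos hp t
    · simp [hp] at h0
  have hV : y * lp hB S (fun s => if D.IsPosRoot (π s) then 0 else c s) * y⁻¹ ∈ D.negUnipotent F := by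
    apply lp_conj_mem hB hy _ (fun s hs => (hpos s hs).1)
    intro s hs h0 t
    by_cases hp : D.IsPosRoot (π s)
    · simp [hp] at h0
    · rcases hT.tab.pos_or_neg (hy s (hpos s hs).1).1 with h | h
      · exact absurd h hp
      · exact hB.xg_mem_neg h t
  have hU2 : y * lp hB S (fun s => if D.IsPosRoot (π s) then 0 else c s) * y⁻¹ ∈ D.posUnipotent F := by
    have : y * lp hB S (fun s => if D.IsPosRoot (π s) then 0 else c s) * y⁻¹ =
        (y * lp hB S (fun s => if D.IsPosRoot (π s) then c s else 0) * y⁻¹)⁻¹ * (y * lp hB S c * y⁻¹) := by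
      rw [e]; group
    rw [this]
    exact mul_mem (inv_mem hA) hU
  have h1 : y * lp hB S (fun s => if D.IsPosRoot (π s) then 0 else c s) * y⁻¹ = 1 := by
    have : _ ∈ D.posUnipotent F ⊓ D.negUnipotent F := ⟨hU2, hV⟩
    rwa [hB.U_inf_V hT.toTabs, Subgroup.mem_bot] at this
  have h2 := conj_eq_one' h1
  rw [← lp_zero hB S] at h2
  have h3 := lp_inj hB hD hpos hs h2
  intro s hs' hcs
  by_contra hp
  have := h3 s hs'
  simp only [if_neg hp] at this
  exact hcs this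

/-- the trick with the words -/
theorem pos_of_word (hD : D ∈ [chevG2, chevB2, chevD4, chevF4, chevE6, chevE7, chevE8]) {n : GL D.Idx F}
    {π : ℕ → ℕ} (hn : GAct hB n π) {S : List ℕ} (hpos : ∀ r ∈ S, D.IsPosRoot r) (hs : S.Pairwise (· < ·))
    (hcomm : PC hB S) {c c' : ℕ → F} (h : n * lp hB S c * n⁻¹ = lp hB S c') {L : List ℕ}
    (hL : ∀ i ∈ L, i < D.rank) (hLS : ∀ s ∈ S, D.IsPosRoot (wAct D L s)) :
    ∀ s ∈ S, c s ≠ 0 → D.IsPosRoot (wAct D L (π s)) := by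
  have hT := tabs2_of_mem hD
  have hW := gact_nW hB hT.tab hL
  refine stepG hB hD (hW.mul hB hn) hpos hs hcomm ?_
  rw [conj_mul', h]
  exact lp_conj_mem hB hW _ (fun s hs => (hpos s hs).1) _ fun s hs _ t => hB.xg_mem_pos (hLS s hs) t

/-! ### conjugation by positive root elements -/

/-- add `e` to the coefficient of `k` -/
def upd (c : ℕ → F) (k : ℕ) (e : F) : ℕ → F := fun s => if s = k then c s + e else c s

theorem lp_mul_single {L : List ℕ} (hnd : L.Nodup) {k : ℕ} (hk : k ∈ L)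
    (hcomm : ∀ s ∈ L, ∀ e u : F, hB.xg k e * hB.xg s u = hB.xg s u * hB.xg k e) (c : ℕ → F) (e : F) :
    lp hB L c * hB.xg k e = lp hB L (upd c k e) := by
  induction L with
  | nil => simp at hk
  | cons s L ih =>
    have hnd' := (List.nodup_cons.mp hnd)
    rw [lp_cons, lp_cons]
    by_cases hsk : s = k
    · subst hsk
      have h1 : lp hB L (upd c s e) = lp hB L c := by
        apply lp_congr
        intro x hx
        have : x ≠ s := by rintro rfl; exact hnd'.1 hx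
        simp [upd, this]
      rw [h1, mul_assoc, ← lp_comm hB (fun x hx u => hcomm x (by simp [hx]) e u), ← mul_assoc, hB.xg_add]
      simp [upd]
    · have hk' : k ∈ L := (List.mem_cons.mp hk).resolve_left (Ne.symm hsk)
      rw [mul_assoc, ih hnd'.2 hk' fun x hx => hcomm x (by simp [hx])]
      simp [upd, hsk]

theorem lp_conj_triv {g : GL D.Idx F} {L : List ℕ} (h : ∀ s ∈ L, ∀ u : F, g * hB.xg s u = hB.xg s u * g)
    (c : ℕ → F) : g * lp hB L c * g⁻¹ = lp hB L c := by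
  rw [lp_comm hB h]; group

theorem lp_conj_special {L : List ℕ} (hnd : L.Nodup) {r s₀ k : ℕ} (hs₀ : s₀ ∈ L) (t : F)
    (hr : ∀ s ∈ L, s ≠ s₀ → ∀ u : F, hB.xg r t * hB.xg s u = hB.xg s u * hB.xg r t)
    (hsp : ∀ u : F, hB.xg r t * hB.xg s₀ u * (hB.xg r t)⁻¹ = hB.xg s₀ u * hB.xg k (t * u))
    (hk : ∀ s ∈ L, ∀ e u : F, hB.xg k e * hB.xg s u = hB.xg s u * hB.xg k e) (c : ℕ → F) :
    hB.xg r t * lp hB L c * (hB.xg r t)⁻¹ = lp hB L c * hB.xg k (t * c s₀) := by
  induction L with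
  | nil => simp at hs₀
  | cons s L ih =>
    have hnd' := (List.nodup_cons.mp hnd)
    have e : hB.xg r t * lp hB (s :: L) c * (hB.xg r t)⁻¹ =
        (hB.xg r t * hB.xg s (c s) * (hB.xg r t)⁻¹) * (hB.xg r t * lp hB L c * (hB.xg r t)⁻¹) := by
      rw [lp_cons]; group
    rw [e, lp_cons]
    by_cases hs : s = s₀
    · subst hs
      rw [hsp, lp_conj_triv hB (fun x hx u => hr x (by simp [hx]) (by rintro rfl; exact hnd'.1 hx) u),
        mul_assoc, lp_comm hB (fun x hx u => hk x (by simp [hx]) _ u), mul_assoc]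
    · have hs₀' : s₀ ∈ L := (List.mem_cons.mp hs₀).resolve_left (Ne.symm hs)
      rw [ih hnd'.2 hs₀' (fun x hx => hr x (by simp [hx])) (fun x hx => hk x (by simp [hx])),
        hr s (by simp) hs]
      group

theorem U_form (hD : D ∈ [chevG2, chevB2, chevD4, chevF4, chevE6, chevE7, chevE8]) {u : GL D.Idx F}
    (hu : u ∈ D.posUnipotent F) : ∃ d : ℕ → F, u = lp hB D.posRoots d := by
  obtain ⟨T, W, hc⟩ := exists_checks D hD
  obtain ⟨d, hd⟩ := exists_ordProd hc (triOK_of_mem hD) (ordOK_of_mem hD) hu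
  exact ⟨d, Units.ext (by rw [hd, coe_lp])⟩

theorem lp_conj_fold {S : List ℕ} (stp : ℕ → F → (ℕ → F) → (ℕ → F))
    (hstp : ∀ r, D.IsPosRoot r → ∀ (t : F) (c : ℕ → F),
      hB.xg r t * lp hB S c * (hB.xg r t)⁻¹ = lp hB S (stp r t c))
    (L : List ℕ) (hL : ∀ r ∈ L, D.IsPosRoot r) (d c : ℕ → F) :
    lp hB L d * lp hB S c * (lp hB L d)⁻¹ = lp hB S (L.foldr (fun r c => stp r (d r) c) c) := by
  induction L with
  | nil => simp
  | cons r L ih =>
    rw [lp_cons, conj_mul', ih fun x hx => hL x (by simp [hx]), hstp r (hL r (by simp))]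
    rfl

/-! ### the monomial group -/

theorem exists_act (X : BNData D F) (w : ↥X.P.N) : ∃ π π' : ℕ → ℕ,
    GAct X.hB ((w : ↥(D.group F)) : GL D.Idx F) π ∧ GAct X.hB (((w : ↥(D.group F)) : GL D.Idx F))⁻¹ π' ∧
    (∀ a b, a < D.nroots → b < D.nroots → D.pairing (π a) (π b) = D.pairing a b) ∧
    (∀ a, a < D.nroots → π (π' a) = a) ∧
    (∀ a (h : a < D.nroots), π a = (X.σ w ⟨a, h⟩ : Fin D.nroots).val) := by
  have hTt := X.hT.tab
  refine ⟨fun s => if h : s < D.nroots then (X.σ w ⟨s, h⟩ : Fin D.nroots).val else 0,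
    fun s => if h : s < D.nroots then (X.σ w⁻¹ ⟨s, h⟩ : Fin D.nroots).val else 0, ?_, ?_, ?_, ?_, ?_⟩
  · intro s hs
    obtain ⟨c, hc0, hcw⟩ := X.hB.conj_xg hTt (X.ι w) ⟨s, hs⟩
    simp only [dif_pos hs]
    exact ⟨(X.σ w ⟨s, hs⟩ : Fin D.nroots).2, c, hc0, fun t => hcw t⟩
  · intro s hs
    obtain ⟨c, hc0, hcw⟩ := X.hB.conj_xg hTt (X.ι w⁻¹) ⟨s, hs⟩
    simp only [dif_pos hs]
    exact ⟨(X.σ w⁻¹ ⟨s, hs⟩ : Fin D.nroots).2, c, hc0, fun t => hcw t⟩
  · intro a b ha hb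
    simp only [dif_pos ha, dif_pos hb]
    exact X.rootAct.pr_inv w ⟨a, ha⟩ ⟨b, hb⟩
  · intro a ha
    simp only [dif_pos ha, Fin.is_lt, Fin.eta]
    rw [map_inv]
    simp
  · intro a ha
    simp only [dif_pos ha]

/-- the elements of `N` fixing the roots of a list -/
theorem mem_of_fix2 (X : BNData D F) (R : List ℕ) (hR : ∀ r ∈ R, r < D.nroots) (J : ℕ → Prop)
    (h1 : ∀ i, i < D.rank → ¬ J i → ∀ q, D.IsNegRoot q →
      ¬ (∀ r ∈ R, D.pairing q r = D.pairing (D.simple i) r))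
    (h2 : ∀ i, i < D.rank → J i → ∀ r ∈ R, D.reflectRoot i r = r)
    (K : Subgroup (GL D.Idx F)) (hK : ∀ i, i < D.rank → J i → X.hB.ng (D.simple i) 1 ∈ K) :
    ∀ (k : ℕ) (w : ↥X.P.N), X.rootAct.len w⁻¹ = k →
      (∀ r (hr : r ∈ R), X.σ w ⟨r, hR r hr⟩ = ⟨r, hR r hr⟩) →
      ∃ h ∈ D.diagonalSubgroup F, ∃ y ∈ K, ((w : ↥(D.group F)) : GL D.Idx F) = h * y := by
  intro k
  induction k with
  | zero =>
    intro w hw _
    have h1 : ((w⁻¹ : ↥X.P.N) : ↥(D.group F)) ∈ X.P.B := (BN.len_eq_zero (w⁻¹).2).1 hw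
    have h2 : (((w : ↥(D.group F)) : GL D.Idx F))⁻¹ ∈ D.borelSubgroup F := (X.mem_B_iff _).1 h1
    have h3 : (((w : ↥(D.group F)) : GL D.Idx F))⁻¹ ∈ D.diagonalSubgroup F := by
      rw [← X.hB.B_inf_N X.hT.toTabs]
      exact ⟨h2, (D.monomialSubgroup F).inv_mem (X.coe_mem_N w)⟩
    refine ⟨_, ?_, 1, one_mem _, (mul_one _).symm⟩
    have := (D.diagonalSubgroup F).inv_mem h3
    rwa [inv_inv] at this
  | succ k ih =>
    intro w hw hfix
    have hTt := X.hT.tab
    obtain ⟨i, hi⟩ := X.rootAct.down w⁻¹ (by omega)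
    have hl := RootAct.len_of_not_pos hi
    rw [inv_inv] at hi
    have hneg : D.IsNegRoot (X.σ w (X.pI i) : Fin D.nroots) := by
      rcases hTt.pos_or_neg (X.σ w (X.pI i) : Fin D.nroots).2 with h | h
      · exact absurd h hi
      · exact h
    have hJ : J i := by
      by_contra hJ
      refine h1 i i.2 hJ _ hneg fun r hr => ?_
      have e := X.rootAct.pr_inv w (X.pI i) ⟨r, hR r hr⟩
      have e' : D.pairing (X.σ w (X.pI i) : Fin D.nroots) (X.σ w ⟨r, hR r hr⟩ : Fin D.nroots) =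
          D.pairing (D.simple i) r := e
      rw [hfix r hr] at e'
      exact e'
    set w' : ↥X.P.N := w * (X.sN i)⁻¹ with hw'
    have hw'inv : w'⁻¹ = X.sN i * w⁻¹ := by rw [hw']; group
    have hlen : X.rootAct.len w'⁻¹ = k := by
      rw [hw'inv]
      have : X.rootAct.len (X.rootAct.s i * w⁻¹) = X.rootAct.len (X.sN i * w⁻¹) := rfl
      omega
    have hfix' : ∀ r (hr : r ∈ R), X.σ w' ⟨r, hR r hr⟩ = ⟨r, hR r hr⟩ := by
      intro r hr
      have hs : X.σ (X.sN i) ⟨r, hR r hr⟩ = ⟨r, hR r hr⟩ := by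
        apply Fin.ext
        rw [X.σ_sN]
        exact h2 i i.2 hJ r hr
      rw [hw', map_mul, map_inv, Equiv.Perm.mul_apply]
      have : (X.σ (X.sN i))⁻¹ ⟨r, hR r hr⟩ = ⟨r, hR r hr⟩ := by
        rw [Equiv.Perm.inv_eq_iff_eq]; exact hs.symm
      rw [this, hfix r hr]
    obtain ⟨h, hh, y, hy, e⟩ := ih w' hlen hfix'
    refine ⟨h, hh, y * X.hB.ng (D.simple i) 1, mul_mem hy (hK i i.2 hJ), ?_⟩
    have e2 : ((w : ↥(D.group F)) : GL D.Idx F) =
        ((w' : ↥(D.group F)) : GL D.Idx F) * X.hB.ng (D.simple i) 1 := by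
      have : ((w' : ↥(D.group F)) : GL D.Idx F) =
          ((w : ↥(D.group F)) : GL D.Idx F) * (X.hB.ng (D.simple i) 1)⁻¹ := rfl
      rw [this]; group
    rw [e2, e, mul_assoc]

theorem Um_le_of (hT : Tabs2 D) {n : GL D.Idx F} {π : ℕ → ℕ} (hAct : GAct hB n π) (K : Subgroup (GL D.Idx F))
    (hK : ∀ r, D.IsPosRoot r → D.IsNegRoot (π r) → ∀ τ : F, hB.xg r τ ∈ K) : Um D F n ≤ K := by
  unfold Um
  rw [Subgroup.closure_le]
  rintro x ⟨r, τ, hr, hmap, hx⟩
  rw [hB.eq_xg hx]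
  obtain ⟨hπr, η, hη, eη⟩ := hAct r hr.1
  have h1 : hB.xg (π r) (η * 1) ∈ D.negUnipotent F := by
    rw [← eη]
    exact hmap ⟨hB.xg r 1, hB.xg_mem_root r 1, rfl⟩
  refine hK r hr ?_ τ
  rcases hT.tab.pos_or_neg hπr with hp | hn
  · exfalso
    have h2 : hB.xg (π r) (η * 1) ∈ D.posUnipotent F ⊓ D.negUnipotent F := ⟨hB.xg_mem_pos hp _, h1⟩
    rw [hB.U_inf_V hT.toTabs, Subgroup.mem_bot, hB.xg_eq_one_iff hπr] at h2
    exact hη (by simpa using h2)
  · exact hn

end Cfsg.Agent.Lib.Helper17.CG
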