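import Mathlib
import Cfsg.Agent.Lib.Helper17.Basic
import Cfsg.Agent.S1018
import Cfsg.Agent.S1019

set_option autoImplicit false
set_option linter.unusedSectionVars false
set_option linter.style.haveILetI false

namespace Cfsg.Agent.Lib.Helper17

open Subgroup

variable {G : Type*} [Group G] [Finite G]

/-- If the Sylow `p`-subgroups have order `p`, there are `n_p (p - 1)` elements of order `p`. -/
lemma card_orderOf_eq_prime {p : ℕ} [Fact p.Prime] (P₀ : Sylow p G)
    (hP₀ : Nat.card ↥(P₀ : Subgroup G) = p) :
    Nat.card {g : G // orderOf g = p} = Nat.card (Sylow p G) * (p - 1) := by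
  classical
  have hp : p.Prime := Fact.out
  have hcard : ∀ Q : Sylow p G, Nat.card ↥(Q : Subgroup G) = p := by
    intro Q
    rw [Q.card_eq_multiplicity, ← P₀.card_eq_multiplicity, hP₀]
  have hmult : p ^ (Nat.card G).factorization p = p := by rw [← P₀.card_eq_multiplicity, hP₀]
  have hord : ∀ (Q : Sylow p G) (z : G), z ∈ (Q : Subgroup G) → z ≠ 1 → orderOf z = p := by
    intro Q z hz hz1
    have h2 : orderOf z ∣ p := by
      have := orderOf_dvd_natCard (⟨z, hz⟩ : ↥(Q : Subgroup G))
      rw [hcard Q] at this
      rwa [← Subgroup.orderOf_coe] at this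
    rcases (Nat.dvd_prime hp).mp h2 with h3 | h3
    · rw [orderOf_eq_one_iff] at h3; exact absurd h3 hz1
    · exact h3
  let e : {g : G // orderOf g = p} ≃ Σ Q : Sylow p G, {g : G // g ∈ (Q : Subgroup G) ∧ g ≠ 1} :=
    { toFun := fun g => ⟨Sylow.ofCard (zpowers g.1) (by rw [Nat.card_zpowers, g.2, hmult]),
        ⟨g.1, by rw [Sylow.coe_ofCard]; exact mem_zpowers g.1, by
          intro h
          have := g.2
          rw [h, orderOf_one] at this
          exact hp.one_lt.ne this⟩⟩
      invFun := fun s => ⟨s.2.1, hord s.1 s.2.1 s.2.2.1 s.2.2.2⟩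
      left_inv := fun g => rfl
      right_inv := by
        rintro ⟨Q, g, hg, hg1⟩
        have h1 : Sylow.ofCard (zpowers g) (by rw [Nat.card_zpowers, hord Q g hg hg1, hmult]) = Q := by
          apply Sylow.ext
          rw [Sylow.coe_ofCard]
          exact Cfsg.Agent.S1018.zpowers_eq_sylow Q (hcard Q) g (hord Q g hg hg1) hg
        refine Sigma.ext h1 ?_
        simp only
        generalize_proofs pf1 pf2 pf3
        revert pf2 pf3
        generalize Sylow.ofCard (zpowers g) pf1 = Q' at h1
        subst h1
        intro _ _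
        rfl }
  have := Fintype.ofFinite (Sylow p G)
  have hfib : ∀ Q : Sylow p G, Nat.card {g : G // g ∈ (Q : Subgroup G) ∧ g ≠ 1} = p - 1 := by
    intro Q
    have e2 : {g : G // g ∈ (Q : Subgroup G) ∧ g ≠ 1} ≃ {g : ↥(Q : Subgroup G) // g ≠ 1} :=
      { toFun := fun g => ⟨⟨g.1, g.2.1⟩, fun h => g.2.2 (congrArg Subtype.val h)⟩
        invFun := fun g => ⟨g.1.1, g.1.2, fun h => g.2 (Subtype.ext h)⟩
        left_inv := fun g => rfl
        right_inv := fun g => rfl }
    have := Fintype.ofFinite ↥(Q : Subgroup G)
    rw [Nat.card_congr e2, Nat.card_eq_fintype_card, Fintype.card_subtype_compl, Fintype.card_subtype_eq,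
      ← Nat.card_eq_fintype_card, hcard Q]
  rw [Nat.card_congr e, Nat.card_sigma, Finset.sum_congr rfl (fun Q _ => hfib Q), Finset.sum_const,
    Finset.card_univ, smul_eq_mul, Nat.card_eq_fintype_card]

/-- counting elements by their orders -/
lemma sum_card_orderOf_le (S : Finset ℕ) :
    ∑ d ∈ S, Nat.card {g : G // orderOf g = d} ≤ Nat.card G := by
  classical
  have := Fintype.ofFinite G
  have h1 : ∀ d : ℕ, Nat.card {g : G // orderOf g = d} = (Finset.univ.filter (fun g : G => orderOf g = d)).card := by
    intro d
    rw [Nat.card_eq_fintype_card, Fintype.card_subtype]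
  simp_rw [h1]
  rw [← Finset.card_biUnion]
  · rw [Nat.card_eq_fintype_card]
    exact Finset.card_le_univ _
  · intro a _ b _ hab
    rw [Function.onFun, Finset.disjoint_filter]
    intro g _ h2 h3
    exact hab (h2.symm.trans h3)

/-- the size of a conjugacy class times the order of the centralizer -/
lemma card_conj_mul_card_centralizer (x : G) :
    Nat.card {g : G // IsConj x g} * Nat.card (centralizer ({x} : Set G)) = Nat.card G := by
  have h3 := Cfsg.Agent.S1019.card_conj_mem x (fun _ => True)
  have h4 : Nat.card {g : G // (fun _ => True) (g⁻¹ * x * g)} = Nat.card G :=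
    Nat.card_congr (Equiv.subtypeUnivEquiv (fun _ => trivial))
  have h5 : Nat.card {y : G // IsConj x y ∧ (fun _ => True) y} = Nat.card {g : G // IsConj x g} :=
    Nat.card_congr (Equiv.subtypeEquivRight (fun y => by simp))
  rw [h4, h5] at h3
  exact h3.symm

lemma orderOf_eq_of_isConj {x y : G} (h : IsConj x y) : orderOf x = orderOf y := by
  obtain ⟨c, hc⟩ := isConj_iff.mp h
  have hs : SemiconjBy c x y := by
    unfold SemiconjBy
    rw [← hc]; group
  exact hs.orderOf_eq

/-- the conjugacy class of `x` consists of elements of the same order -/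
lemma card_conj_le_card_orderOf (x : G) :
    Nat.card {g : G // IsConj x g} ≤ Nat.card {g : G // orderOf g = orderOf x} := by
  apply Nat.card_le_card_of_injective
    (fun g : {g : G // IsConj x g} => (⟨g.1, (orderOf_eq_of_isConj g.2).symm⟩ : {g : G // orderOf g = orderOf x}))
  intro a b hab
  exact Subtype.ext (congrArg (fun z : {g : G // orderOf g = orderOf x} => z.1) hab)

end Cfsg.Agent.Lib.Helper17
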