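import Mathlib
import Cfsg.Agent.Lib.Helper17.Count
import Cfsg.Agent.Lib.Helper17.AutSq

/-!
# Counting elements by order and class size; transfer of PSL along field isomorphisms (helper17)
-/

set_option autoImplicit false

namespace Cfsg.Agent.Lib.Helper17

open Subgroup

section
variable {G : Type*} [Group G] [Finite G]

/-- counting elements by their orders (equality) -/
lemma sum_card_orderOf_eq (S : Finset ℕ) (hS : ∀ g : G, orderOf g ∈ S) :
    ∑ d ∈ S, Nat.card {g : G // orderOf g = d} = Nat.card G := by
  classical
  have := Fintype.ofFinite G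
  have h1 : ∀ d : ℕ, Nat.card {g : G // orderOf g = d} =
      (Finset.univ.filter (fun g : G => orderOf g = d)).card := by
    intro d
    rw [Nat.card_eq_fintype_card, Fintype.card_subtype]
  simp_rw [h1]
  rw [Nat.card_eq_fintype_card, ← Finset.card_univ]
  exact (Finset.card_eq_sum_card_fiberwise (fun g _ => hS g)).symm

/-- If all class sizes of the elements of order `d` are divisible by `n`, so is their number. -/
lemma dvd_card_orderOf (d n : ℕ)
    (h : ∀ x : G, orderOf x = d → n ∣ Nat.card {g : G // IsConj x g}) :
    n ∣ Nat.card {g : G // orderOf g = d} := by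
  classical
  let S : SubMulAction (ConjAct G) G :=
    { carrier := {g | orderOf g = d}
      smul_mem' := by
        intro c x hx
        have : IsConj x (c • x) := by
          rw [isConj_iff]
          exact ⟨ConjAct.ofConjAct c, (ConjAct.smul_def c x).symm⟩
        exact (orderOf_eq_of_isConj this).symm.trans hx }
  have key : n ∣ Nat.card S := by
    apply dvd_card_of_dvd_orbits (A := ConjAct G)
    intro x
    have h1 := h x.1 x.2
    have h2 : Nat.card (MulAction.orbit (ConjAct G) x) = Nat.card {g : G // IsConj x.1 g} := by
      refine Nat.card_congr (Equiv.ofBijective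
        (fun y => ⟨y.1.1, ?_⟩) ⟨?_, ?_⟩)
      · obtain ⟨c, hc⟩ := y.2
        rw [isConj_iff]
        refine ⟨ConjAct.ofConjAct c, ?_⟩
        have := congrArg Subtype.val hc
        simp only [SubMulAction.val_smul] at this
        rw [← this, ConjAct.smul_def]
      · intro a b hab
        have h3 : a.1.1 = b.1.1 := congrArg (fun z : {g : G // IsConj x.1 g} => z.1) hab
        exact Subtype.ext (Subtype.ext h3)
      · rintro ⟨g, hg⟩
        obtain ⟨c, hc⟩ := isConj_iff.mp hg
        have hgS : g ∈ S := (orderOf_eq_of_isConj hg).symm.trans x.2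
        refine ⟨⟨⟨g, hgS⟩, ⟨ConjAct.toConjAct c, ?_⟩⟩, rfl⟩
        apply Subtype.ext
        show ConjAct.toConjAct c • x.1 = g
        rw [ConjAct.smul_def, ConjAct.ofConjAct_toConjAct, hc]
    rw [h2]; exact h1
  exact key

end

section PSL

variable {n : Type*} [Fintype n] [DecidableEq n] {R S : Type*} [CommRing R] [CommRing S]

/-- `SL_n` of isomorphic rings -/
noncomputable def slEquiv (e : R ≃+* S) :
    Matrix.SpecialLinearGroup n R ≃* Matrix.SpecialLinearGroup n S where
  toFun := Matrix.SpecialLinearGroup.map (e : R →+* S)
  invFun := Matrix.SpecialLinearGroup.map (e.symm : S →+* R)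
  left_inv := by
    intro A
    ext i j
    simp
  right_inv := by
    intro A
    ext i j
    simp
  map_mul' := map_mul _

/-- `PSL_n` of isomorphic rings -/
theorem nonempty_psl_equiv (e : R ≃+* S) :
    Nonempty (Matrix.ProjectiveSpecialLinearGroup n R ≃* Matrix.ProjectiveSpecialLinearGroup n S) := by
  refine ⟨QuotientGroup.congr _ _ (slEquiv e) ?_⟩
  ext x
  simp only [Subgroup.mem_map, Subgroup.mem_center_iff]
  constructor
  · rintro ⟨y, hy, rfl⟩ g
    obtain ⟨g', rfl⟩ := (slEquiv (n := n) e).surjective g
    have := hy g'
    show (slEquiv e) g' * (slEquiv e) y = (slEquiv e) y * (slEquiv e) g'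
    rw [← map_mul, ← map_mul, this]
  · intro hx
    refine ⟨(slEquiv e).symm x, fun g => ?_, by simp⟩
    apply (slEquiv (n := n) e).injective
    rw [map_mul, map_mul, MulEquiv.apply_symm_apply]
    exact hx _

end PSL

end Cfsg.Agent.Lib.Helper17
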