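import Mathlib
import Cfsg.Agent.Lib.Helper17.Basic
import Cfsg.Agent.S0985

set_option autoImplicit false
set_option linter.unusedSectionVars false
set_option linter.style.haveILetI false

namespace Cfsg.Agent.Lib.Helper17

open Subgroup

variable {G : Type*} [Group G] [Finite G]

/-- If a subgroup `M` contains two distinct Sylow `p`-subgroups of `G`, then
`|M| = |P| * k` where the number `n` of Sylow `p`-subgroups of `M` divides `k`, is `1` mod `p`
and is not `1`. -/
lemma card_of_two_sylow_le {p : ℕ} [Fact p.Prime] (P R : Sylow p G) (hne : P ≠ R) (M : Subgroup G)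
    (hP : (P : Subgroup G) ≤ M) (hR : (R : Subgroup G) ≤ M) :
    ∃ k n : ℕ, Nat.card M = Nat.card ↥(P : Subgroup G) * k ∧ n ∣ k ∧ n % p = 1 ∧ n ≠ 1 := by
  have hp : p.Prime := Fact.out
  refine ⟨((P.subtype hP : Sylow p M) : Subgroup M).index, Nat.card (Sylow p M), ?_, ?_, ?_, ?_⟩
  · rw [← Subgroup.card_mul_index ((P.subtype hP : Sylow p M) : Subgroup M), Sylow.coe_subtype,
      card_subgroupOf_of_le hP]
  · exact (P.subtype hP).card_dvd_index
  · have := card_sylow_modEq_one p M
    rw [Nat.ModEq, Nat.mod_eq_of_lt hp.one_lt] at this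
    exact this
  · intro h1
    have hsub : Subsingleton (Sylow p M) := (Nat.card_eq_one_iff_unique.mp h1).1
    exact hne (Sylow.subtype_injective (Subsingleton.elim (P.subtype hP) (R.subtype hR)))

lemma card_ge_of_two_sylow_le {p : ℕ} [Fact p.Prime] (P R : Sylow p G) (hne : P ≠ R)
    (M : Subgroup G) (hP : (P : Subgroup G) ≤ M) (hR : (R : Subgroup G) ≤ M) :
    Nat.card ↥(P : Subgroup G) * (p + 1) ≤ Nat.card M := by
  obtain ⟨k, n, h1, h2, h3, h4⟩ := card_of_two_sylow_le P R hne M hP hR
  have hM : 0 < Nat.card M := Nat.card_pos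
  have hk : 0 < k := by
    rcases Nat.eq_zero_or_pos k with h | h
    · rw [h, mul_zero] at h1; omega
    · exact h
  have hn : p + 1 ≤ n := by
    have := Nat.div_add_mod n p
    rw [h3] at this
    rcases Nat.eq_zero_or_pos (n / p) with h | h
    · rw [h] at this; omega
    · have : p * 1 ≤ p * (n / p) := Nat.mul_le_mul_left p h
      omega
  rw [h1]
  exact Nat.mul_le_mul_left _ (hn.trans (Nat.le_of_dvd hk h2))

/-- a subgroup of index `p` in a Sylow `p`-subgroup is normalised by it. -/
lemma le_normalizer_of_index_p {p : ℕ} [Fact p.Prime] (P : Sylow p G) (D : Subgroup G)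
    (hD : D ≤ P) (hidx : Nat.card D * p = Nat.card ↥(P : Subgroup G)) :
    (P : Subgroup G) ≤ normalizer (D : Set G) := by
  have hp : p.Prime := Fact.out
  rw [← Subgroup.normal_subgroupOf_iff_le_normalizer hD]
  apply Subgroup.normal_of_index_eq_minFac_card
  have h1 := (D.subgroupOf (P : Subgroup G)).card_mul_index
  rw [card_subgroupOf_of_le hD, ← hidx] at h1
  have hD0 : 0 < Nat.card D := Nat.card_pos
  have h2 : (D.subgroupOf (P : Subgroup G)).index = p := Nat.eq_of_mul_eq_mul_left hD0 h1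
  rw [h2]
  obtain ⟨n, hn⟩ := P.2.exists_card_eq
  rw [hn]
  have hn0 : n ≠ 0 := by
    rintro rfl
    rw [pow_zero] at hn
    rw [hn] at hidx
    have := Nat.eq_one_of_mul_eq_one_left hidx
    exact hp.one_lt.ne' this
  exact (hp.pow_minFac hn0).symm

/-- If `n_p` is not `1` mod `p^2`, there are two distinct Sylow `p`-subgroups whose intersection
has index `p` in each of them (and so is normalised by both). -/
lemma exists_sylow_inter_index_p {p : ℕ} [Fact p.Prime]
    (h : ¬ Nat.card (Sylow p G) ≡ 1 [MOD p ^ 2]) :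
    ∃ P R : Sylow p G, P ≠ R ∧
      Nat.card ↥((P : Subgroup G) ⊓ R) * p = Nat.card ↥(P : Subgroup G) ∧
      (P : Subgroup G) ≤ normalizer (((P : Subgroup G) ⊓ R : Subgroup G) : Set G) ∧
      (R : Subgroup G) ≤ normalizer (((P : Subgroup G) ⊓ R : Subgroup G) : Set G) := by
  have hp : p.Prime := Fact.out
  obtain ⟨P, R, hne, hidx⟩ := Cfsg.Agent.S0985.result p 2 h
  have hPR : Nat.card ↥(P : Subgroup G) = Nat.card ↥(R : Subgroup G) := by
    rw [P.card_eq_multiplicity, R.card_eq_multiplicity]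
  have h1 := ((R : Subgroup G).subgroupOf (P : Subgroup G)).card_mul_index
  rw [card_subgroupOf, inf_comm] at h1
  obtain ⟨n, hn⟩ := P.2.exists_card_eq
  have hdvd : ((R : Subgroup G).subgroupOf (P : Subgroup G)).index ∣ p ^ n := hn ▸ Subgroup.index_dvd_card _
  obtain ⟨m, hm, hm'⟩ := (Nat.dvd_prime_pow hp).mp hdvd
  have hm1 : m ≤ 1 := by
    rw [hm'] at hidx
    exact (Nat.pow_le_pow_iff_right hp.one_lt).mp hidx
  have hm0 : m ≠ 0 := by
    rintro rfl
    rw [pow_zero, Subgroup.index_eq_one, Subgroup.subgroupOf_eq_top] at hm'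
    -- P ≤ R
    apply hne
    apply Sylow.ext
    exact Subgroup.eq_of_le_of_card_ge hm' hPR.ge
  have hm2 : m = 1 := by omega
  rw [hm2, pow_one] at hm'
  rw [hm'] at h1
  refine ⟨P, R, hne, h1, le_normalizer_of_index_p P _ inf_le_left h1,
    le_normalizer_of_index_p R _ inf_le_right (hPR ▸ h1)⟩

end Cfsg.Agent.Lib.Helper17
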