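import Mathlib
import Cfsg.Prelude.Def_Blocks
import Cfsg.Agent.S0907
import Cfsg.Agent.S0910
import Cfsg.Agent.Lib.Helper78.DefectZero
import Cfsg.Agent.Lib.Helper97.KazarinChar
import Cfsg.Agent.Lib.Helper3.Integral
import Cfsg.Agent.Lib.Helper17.Basic

set_option autoImplicit false
set_option linter.unusedSectionVars false
set_option linter.style.haveILetI false

/-! In a simple group of order `p^a q^b r` the Sylow `r`-subgroups are self-centralizing. -/

namespace Cfsg.Agent.Lib.Helper17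

open Cfsg Cfsg.Agent.Lib.Helper78 Cfsg.Agent.Lib.Helper97
open scoped ComplexConjugate

/-- the principal `p`-block contains a nonprincipal character of degree prime to `q` not vanishing at
a given `p`-singular element. -/
theorem exists_irr_principal_ne_zero {G : Type*} [Group G] [Finite G] {p q : ℕ} (hp : p.Prime)
    (hq : q.Prime) {M : Ideal AlgInt} (hM : IsPModular p M) (y : G) (hy : p ∣ orderOf y) :
    ∃ χ : IrrCharacter G, χ ∈ principalBlock M G ∧ χ ≠ trivIrr G ∧
      ¬ q ∣ charDegree (χ : G → ℂ) ∧ (χ : G → ℂ) y ≠ 0 := by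
  classical
  have : Fact p.Prime := ⟨hp⟩
  have h := Cfsg.Agent.S0907.result p M hM (principalBlock M G) isPBlock_principalBlock 1 y
    (by rw [orderOf_one]; exact hp.one_lt.ne' ∘ Nat.dvd_one.1) hy
  by_contra hcon
  push Not at hcon
  rw [finsum_mem_irr] at h
  rw [← Finset.add_sum_erase _ _ (Finset.mem_univ (trivIrr G))] at h
  rw [if_pos (trivIrr_mem_principalBlock (pmod_isPrime hM))] at h
  have h1 : ((trivIrr G : IrrCharacter G) : G → ℂ) 1 * conj (((trivIrr G : IrrCharacter G) : G → ℂ) y) = 1 := by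
    simp [trivIrr]
  rw [h1] at h
  have h2 : ∀ χ ∈ Finset.univ.erase (trivIrr G), ∃ α : ℂ, IsIntegral ℤ α ∧
      (if χ ∈ principalBlock M G then (χ : G → ℂ) 1 * conj ((χ : G → ℂ) y) else 0) = (q : ℂ) * α := by
    intro χ hχ
    by_cases hB : χ ∈ principalBlock M G
    · by_cases hd : q ∣ charDegree (χ : G → ℂ)
      · obtain ⟨k, hk⟩ := hd
        refine ⟨(k : ℂ) * conj ((χ : G → ℂ) y), ?_, ?_⟩
        · refine IsIntegral.mul (isIntegral_natCast k) ?_
          rw [← irr_inv]
          exact irr_isIntegral χ _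
        · rw [if_pos hB, irr_one_eq, hk]
          push_cast; ring
      · have h0 := hcon χ hB (Finset.ne_of_mem_erase hχ) hd
        exact ⟨0, isIntegral_zero, by rw [if_pos hB, h0]; simp⟩
    · exact ⟨0, isIntegral_zero, by rw [if_neg hB]; simp⟩
  choose! α hα1 hα2 using h2
  rw [Finset.sum_congr rfl hα2, ← Finset.mul_sum] at h
  have h3 : IsIntegral ℤ (∑ χ ∈ Finset.univ.erase (trivIrr G), α χ) :=
    IsIntegral.sum _ hα1
  have hq0 : (q : ℂ) ≠ 0 := by exact_mod_cast hq.ne_zero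
  have h4 : ((1 : ℕ) : ℂ) / (q : ℂ) = - ∑ χ ∈ Finset.univ.erase (trivIrr G), α χ := by
    field_simp
    push_cast
    linear_combination h
  have h5 : q ∣ 1 := Cfsg.Agent.Lib.Helper3.nat_dvd_of_isIntegral_div hq.ne_zero (by rw [h4]; exact h3.neg)
  exact hq.one_lt.ne' (Nat.dvd_one.1 h5)

/-- No element of order divisible by `p * r` in a nonabelian simple group of order `p^a q^b r`. -/
theorem no_elt_of_order_mul {G : Type*} [Group G] [Finite G] [IsSimpleGroup G]
    (hna : ∃ a b : G, a * b ≠ b * a) (p q r a b : ℕ) (hp : p.Prime) (hq : q.Prime) (hr : r.Prime)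
    (hpq : p ≠ q) (hpr : p ≠ r) (hqr : q ≠ r) (hcard : Nat.card G = p ^ a * q ^ b * r)
    (y : G) (hyp : p ∣ orderOf y) (hyr : r ∣ orderOf y) : False := by
  classical
  have : Fact p.Prime := ⟨hp⟩
  have := Fintype.ofFinite G
  obtain ⟨M, hM⟩ := exists_isPModular p hp
  obtain ⟨M', hM'⟩ := exists_isPModular r hr
  obtain ⟨χ, hχB, hχ1, hχq, hχy⟩ := exists_irr_principal_ne_zero hp hq hM y hyp
  have hdvd := irr_charDegree_dvd_card χ
  set d := charDegree (χ : G → ℂ) with hd
  have hd0 : d ≠ 0 := by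
    intro h0
    rw [h0, zero_dvd_iff] at hdvd
    exact Nat.card_pos.ne' hdvd
  -- r does not divide d
  have hχr : ¬ r ∣ d := by
    intro hrd
    apply hχy
    apply eq_zero_of_blockOf_eq_singleton hM' χ ?_ y hyr
    apply blockOf_eq_singleton_of_defect_zero hM' χ
    rw [← hd]
    intro h1
    -- r * d ∣ |G|, r ∣ d so r^2 ∣ |G|
    have h2 : r * d ∣ Nat.card G := by
      obtain ⟨k, hk⟩ := h1
      have := Nat.div_mul_cancel hdvd
      rw [hk] at this
      exact ⟨k, by rw [← this]; ring⟩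
    have h3 : r * r ∣ Nat.card G := Dvd.dvd.trans (Nat.mul_dvd_mul_left r hrd) h2
    rw [hcard, mul_comm (p ^ a * q ^ b) r] at h3
    have h4 : r ∣ p ^ a * q ^ b := Nat.dvd_of_mul_dvd_mul_left hr.pos h3
    rcases (Nat.Prime.dvd_mul hr).mp h4 with h5 | h5
    · exact hpr ((Nat.prime_dvd_prime_iff_eq hr hp).mp (hr.dvd_of_dvd_pow h5)).symm
    · exact hqr ((Nat.prime_dvd_prime_iff_eq hr hq).mp (hr.dvd_of_dvd_pow h5)).symm
  -- so d is a power of p
  have hdp : d ∣ p ^ a := by
    have c1 : Nat.Coprime d r := ((Nat.Prime.coprime_iff_not_dvd hr).mpr hχr).symm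
    have c2 : Nat.Coprime d (q ^ b) := Nat.Coprime.pow_right b ((Nat.Prime.coprime_iff_not_dvd hq).mpr hχq).symm
    rw [hcard] at hdvd
    exact c2.dvd_of_dvd_mul_right (c1.dvd_of_dvd_mul_right hdvd)
  obtain ⟨k, -, hk⟩ := (Nat.dvd_prime_pow hp).mp hdp
  have h1 := Cfsg.Agent.S0910.result p M hM hna χ hχB k (by rw [irr_one_eq, ← hd, hk]; push_cast; rfl)
  apply hχ1
  apply Subtype.ext
  rw [h1]
  rfl

end Cfsg.Agent.Lib.Helper17
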