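import Mathlib
import Cfsg.Agent.Lib.Helper17.Basic
import Cfsg.Agent.S0904

set_option autoImplicit false
set_option linter.unusedSectionVars false

namespace Cfsg.Agent.Lib.Helper17

/-- In a simple group of order `p^a q^b r` (not of order `r`) there is `e ≠ 1` dividing `r - 1` with
`n_r * (e * r) = |G|`. -/
theorem exists_sylow_number_of_pqr {G : Type*} [Group G] [Finite G] [IsSimpleGroup G]
    (p q r a b : ℕ) (hp : p.Prime) (hq : q.Prime) [Fact r.Prime] (hpq : p ≠ q) (hpr : p ≠ r) (hqr : q ≠ r)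
    (hcard : Nat.card G = p ^ a * q ^ b * r) (hne : Nat.card G ≠ r) :
    ∃ e : ℕ, e ≠ 1 ∧ e ∣ r - 1 ∧ Nat.card (Sylow r G) * (e * r) = Nat.card G ∧
      Nat.card (Sylow r G) % r = 1 := by
  have hr : r.Prime := Fact.out
  obtain ⟨S⟩ : Nonempty (Sylow r G) := inferInstance
  have hnd : ¬ r ∣ p ^ a * q ^ b := by
    intro h4
    rcases (Nat.Prime.dvd_mul hr).mp h4 with h5 | h5
    · exact hpr ((Nat.prime_dvd_prime_iff_eq hr hp).mp (hr.dvd_of_dvd_pow h5)).symm
    · exact hqr ((Nat.prime_dvd_prime_iff_eq hr hq).mp (hr.dvd_of_dvd_pow h5)).symm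
  have hfac : Nat.card G = r ^ 1 * (p ^ a * q ^ b) := by rw [hcard]; ring
  have hS : Nat.card ↥(S : Subgroup G) = r := by simpa using (sylow_card_index S hfac hnd).1
  have hC := Cfsg.Agent.S0904.result p q r a b hp hq hpq hpr hqr hcard S
  obtain ⟨r1, r2, -⟩ := sylow_prime_relIndex S hS hne
  refine ⟨_, r1, r2, ?_, (card_sylow_mem hfac hnd).2⟩
  have hCN : Subgroup.centralizer ((S : Subgroup G) : Set G) ≤ Subgroup.normalizer ((S : Subgroup G) : Set G) :=
    Subgroup.centralizer_le_normalizer _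
  have h1 := ((Subgroup.centralizer ((S : Subgroup G) : Set G)).subgroupOf
    (Subgroup.normalizer ((S : Subgroup G) : Set G))).index_mul_card
  rw [card_subgroupOf_of_le hCN, ← Subgroup.relIndex] at h1
  have h2 : Nat.card ↥(Subgroup.centralizer ((S : Subgroup G) : Set G)) = r := by
    have : Subgroup.centralizer ((S : Subgroup G) : Set G) = (S : Subgroup G) := hC
    rw [this, hS]
  rw [h2] at h1
  rw [h1]
  exact card_sylow_mul_card_normalizer S

end Cfsg.Agent.Lib.Helper17
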