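import Mathlib
import Cfsg.Agent.Lib.Helper17.SelfCent2
import Cfsg.Agent.Lib.Helper17.ClassCount
import Cfsg.Agent.S0105
import Cfsg.Agent.S0991

/-!
# Simple groups of order 504 (helper17)
-/

set_option autoImplicit false

namespace Cfsg.Agent.Lib.Helper17.Ord504

open Subgroup Cfsg.Agent.Lib.Helper17

variable {G : Type*} [Group G] [Finite G] [IsSimpleGroup G]

lemma not_comm (h : Nat.card G = 504) : ¬ IsMulCommutative G :=
  not_comm_of_not_prime (by rw [h]; norm_num)

lemma exists_ne (h : Nat.card G = 504) : ∃ a b : G, a * b ≠ b * a := by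
  by_contra hc
  push Not at hc
  exact not_comm h ⟨⟨hc⟩⟩

lemma index_ne_seven (h : Nat.card G = 504) (H : Subgroup G) : H.index ≠ 7 := by
  intro hidx
  have hH : H ≠ ⊤ := by rintro rfl; simp at hidx
  have h1 := Cfsg.Agent.S0991.result (not_comm h) H hH
  rw [hidx] at h1
  obtain ⟨f, hf⟩ := h1
  have hA : Nat.card (alternatingGroup (Fin 7)) = 2520 := by
    have := two_mul_nat_card_alternatingGroup (α := Fin 7)
    rw [Nat.card_perm] at this
    simp only [Nat.card_eq_fintype_card, Fintype.card_fin] at this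
    have h7 : Nat.factorial 7 = 5040 := by decide
    rw [Nat.card_eq_fintype_card]
    omega
  have : IsSimpleGroup (alternatingGroup (Fin 7)) := alternatingGroup.isSimpleGroup (by simp)
  have hK : Nat.card f.range = 504 := by
    rw [← h]; exact (Nat.card_congr (MonoidHom.ofInjective hf).toEquiv).symm
  have hidx : f.range.index = 5 := by
    have := f.range.index_mul_card
    rw [hK, hA] at this
    omega
  have hne : f.range ≠ ⊤ := by intro e; rw [e] at hidx; simp at hidx
  have := card_dvd_factorial_index f.range hne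
  rw [hA, hidx] at this
  revert this
  decide

/-- proper subgroups have order at most 63 -/
lemma card_le (h : Nat.card G = 504) (H : Subgroup G) (hH : H ≠ ⊤) : Nat.card H ≤ 63 := by
  have h1 := card_dvd_factorial_index H hH
  have h2 := H.index_mul_card
  have h3 := index_ne_seven h H
  rw [h] at h1 h2
  have h4 : 8 ≤ H.index := by
    by_contra hlt
    push Not at hlt
    have h5 : ∀ k < 8, k ≠ 7 → ¬ 504 ∣ k.factorial := by decide
    exact h5 _ hlt h3 h1
  by_contra hc
  push Not at hc
  nlinarith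

lemma card_sylow7 (h : Nat.card G = 504) : Nat.card (Sylow 7 G) = 36 := by
  have : Fact (Nat.Prime 7) := ⟨by norm_num⟩
  obtain ⟨e, he1, hed, hn, hmod⟩ := exists_sylow_number_of_pqr (G := G) 2 3 7 3 2 (by norm_num) (by norm_num)
    (by norm_num) (by norm_num) (by norm_num) (by rw [h]; norm_num) (by rw [h]; norm_num)
  rw [h] at hn
  have hle : e ≤ 6 := Nat.le_of_dvd (by norm_num) hed
  interval_cases e <;> omega

lemma card_order7 (h : Nat.card G = 504) : Nat.card {g : G // orderOf g = 7} = 216 := by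
  have : Fact (Nat.Prime 7) := ⟨by norm_num⟩
  obtain ⟨P⟩ : Nonempty (Sylow 7 G) := inferInstance
  have hP : Nat.card ↥(P : Subgroup G) = 7 := by
    simpa using (sylow_card_index P (a := 1) (m := 72) (by rw [h]; norm_num) (by norm_num)).1
  rw [card_orderOf_eq_prime P hP, card_sylow7 h]

instance : Fact (Nat.Prime 3) := ⟨by norm_num⟩

lemma sylow3_facts (h : Nat.card G = 504) (P : Sylow 3 G) :
    Nat.card ↥(P : Subgroup G) = 9 ∧ Nat.card ↥(normalizer ((P : Subgroup G) : Set G)) = 18 := by
  have hfac : Nat.card G = 3 ^ 2 * 56 := by rw [h]; norm_num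
  have h1 := (sylow_card_index P hfac (by norm_num)).1
  refine ⟨by rw [h1]; norm_num, ?_⟩
  have h2 := card_sylow_mem (p := 3) hfac (by norm_num)
  have h3 := card_sylow_ne_one (p := 3) hfac (by norm_num) (by norm_num) (by norm_num)
  have h4 := card_sylow_mul_card_normalizer P
  rw [h] at h4
  have hne : normalizer ((P : Subgroup G) : Set G) ≠ ⊤ := by
    intro e
    rw [e] at h4
    simp only [Subgroup.card_top, h] at h4
    omega
  have h5 := card_le h _ hne
  have h6 : Nat.card (Sylow 3 G) ≤ 56 := Nat.le_of_dvd (by norm_num) h2.1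
  have h7 : 8 ≤ Nat.card (Sylow 3 G) := by
    by_contra hc
    push Not at hc
    nlinarith
  obtain ⟨h2a, h2b⟩ := h2
  generalize Nat.card (Sylow 3 G) = n at *
  have : n = 28 := by
    interval_cases n <;> omega
  subst this
  omega

lemma sylow3_comm (h : Nat.card G = 504) (P : Sylow 3 G) :
    ∀ a ∈ (P : Subgroup G), ∀ b ∈ (P : Subgroup G), a * b = b * a := by
  intro a ha b hb
  have h0 := IsPGroup.isMulCommutative_of_card_eq_prime_sq (p := 3) (G := ↥(P : Subgroup G))
    (by rw [(sylow3_facts h P).1]; norm_num)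
  have h1 := h0.is_comm.comm ⟨a, ha⟩ ⟨b, hb⟩
  exact congrArg Subtype.val h1

lemma sylow3_inf_center (h : Nat.card G = 504) (P : Sylow 3 G) :
    (P : Subgroup G) ⊓ centralizer (normalizer ((P : Subgroup G) : Set G) : Set G) = ⊥ := by
  have hP9 := (sylow3_facts h P).1
  have hPc : IsMulCommutative ↥(P : Subgroup G) :=
    ⟨⟨fun a b => Subtype.ext (sylow3_comm h P a.1 a.2 b.1 b.2)⟩⟩
  obtain ⟨N', hN', ⟨e⟩⟩ := Cfsg.Agent.S0105.result P hPc
  have h2 := Nat.card_congr e.toEquiv
  rcases hN'.eq_bot_or_eq_top with rfl | rfl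
  · exfalso
    have h1 : Nat.card (G ⧸ (⊥ : Subgroup G)) = 504 := by
      rw [← Subgroup.index_eq_card, Subgroup.index_bot, h]
    have h3 := Subgroup.card_le_of_le (inf_le_left :
      (P : Subgroup G) ⊓ centralizer (normalizer ((P : Subgroup G) : Set G) : Set G) ≤ (P : Subgroup G))
    rw [h1] at h2
    rw [hP9] at h3
    have h4 := h2.trans_le h3
    omega
  · have h1 : Nat.card (G ⧸ (⊤ : Subgroup G)) = 1 := by
      rw [← Subgroup.index_eq_card, Subgroup.index_top]
    rw [h1] at h2
    exact Subgroup.card_eq_one.mp h2.symm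

lemma exists_inverting (h : Nat.card G = 504) (P : Sylow 3 G) :
    ∃ s : G, s ∈ normalizer ((P : Subgroup G) : Set G) ∧ orderOf s = 2 ∧
      ∀ y ∈ (P : Subgroup G), s * y * s⁻¹ = y⁻¹ := by
  obtain ⟨hP9, hN18⟩ := sylow3_facts h P
  have hcomm := sylow3_comm h P
  have : Fact (Nat.Prime 2) := ⟨by norm_num⟩
  obtain ⟨s', hs'⟩ := exists_prime_orderOf_dvd_card' (G := ↥(normalizer ((P : Subgroup G) : Set G))) 2
    (by rw [hN18]; norm_num)
  have hs2 : orderOf (s' : G) = 2 := (Subgroup.orderOf_coe s').trans hs'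
  set s : G := (s' : G) with hs
  have hsN : s ∈ normalizer ((P : Subgroup G) : Set G) := s'.2
  have hsP : s ∉ (P : Subgroup G) := by
    intro hmem
    have := orderOf_dvd_natCard (⟨s, hmem⟩ : ↥(P : Subgroup G))
    rw [Subgroup.orderOf_mk, hs2, hP9] at this
    omega
  -- fixed points of `s` on `P` are trivial
  have hfix : ∀ y ∈ (P : Subgroup G), s * y = y * s → y = 1 := by
    intro y hy hsy
    set K : Subgroup G := centralizer ({y} : Set G) ⊓ normalizer ((P : Subgroup G) : Set G) with hK
    have hPK : (P : Subgroup G) ≤ K := by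
      refine le_inf ?_ Subgroup.le_normalizer
      intro z hz
      rw [Subgroup.mem_centralizer_singleton_iff]
      exact hcomm z hz y hy
    have hsK : s ∈ K := Subgroup.mem_inf.mpr ⟨by rw [Subgroup.mem_centralizer_singleton_iff]; exact hsy, hsN⟩
    have hKN : K ≤ normalizer ((P : Subgroup G) : Set G) := inf_le_right
    have d1 := Subgroup.card_dvd_of_le hPK
    have d2 := Subgroup.card_dvd_of_le hKN
    rw [hP9] at d1
    rw [hN18] at d2
    have hK18 : Nat.card K = 18 := by
      have hle : Nat.card K ≤ 18 := Nat.le_of_dvd (by norm_num) d2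
      have hne9 : Nat.card K ≠ 9 := by
        intro h9
        have : (P : Subgroup G) = K := Subgroup.eq_of_le_of_card_ge hPK (by rw [h9, hP9])
        exact hsP (this ▸ hsK)
      generalize Nat.card K = k at *
      interval_cases k <;> omega
    have hKeq : K = normalizer ((P : Subgroup G) : Set G) :=
      Subgroup.eq_of_le_of_card_ge hKN (by rw [hK18, hN18])
    have hyc : y ∈ (P : Subgroup G) ⊓ centralizer (normalizer ((P : Subgroup G) : Set G) : Set G) := by
      refine Subgroup.mem_inf.mpr ⟨hy, ?_⟩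
      rw [Subgroup.mem_centralizer_iff]
      intro z hz
      have hz' : z ∈ K := hKeq ▸ hz
      have := (Subgroup.mem_inf.mp hz').1
      rw [Subgroup.mem_centralizer_singleton_iff] at this
      exact this
    rw [sylow3_inf_center h P] at hyc
    exact Subgroup.mem_bot.mp hyc
  refine ⟨s, hsN, hs2, fun y hy => ?_⟩
  have hss : s * s = 1 := by rw [← sq, ← hs2]; exact pow_orderOf_eq_one s
  have hsinv : s⁻¹ = s := inv_eq_of_mul_eq_one_left hss
  have hy' : s * y * s⁻¹ ∈ (P : Subgroup G) := (Subgroup.mem_normalizer_iff.mp hsN y).mp hy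
  have hz : y * (s * y * s⁻¹) = 1 := by
    apply hfix _ (mul_mem hy hy')
    have hc := hcomm y hy _ hy'
    rw [hsinv] at hc ⊢
    calc s * (y * (s * y * s)) = (s * y * s) * (s * s) * y * s := by
            simp only [hss, mul_one, mul_assoc]
      _ = (s * y * s) * y * s := by rw [hss, mul_one]
      _ = y * (s * y * s) * s := by rw [hc]
  exact eq_inv_of_mul_eq_one_right hz

omit [Finite G] [IsSimpleGroup G] in
lemma mem_normalizer_zpowers {g x : G} (h1 : g * x * g⁻¹ ∈ zpowers x) (h2 : g⁻¹ * x * g ∈ zpowers x) :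
    g ∈ normalizer ((zpowers x : Subgroup G) : Set G) := by
  rw [Subgroup.mem_normalizer_iff]
  intro z
  constructor
  · rintro ⟨k, rfl⟩
    show g * x ^ k * g⁻¹ ∈ zpowers x
    rw [← conj_zpow]
    exact zpow_mem h1 k
  · rintro ⟨k, hk⟩
    have hk' : x ^ k = g * z * g⁻¹ := hk
    have : z = (g⁻¹ * x * g) ^ k := by
      have h3 := conj_zpow (i := k) (a := g⁻¹) (b := x)
      rw [inv_inv] at h3
      rw [h3, hk']
      group
    rw [this]
    exact zpow_mem h2 k

lemma no_order_21 (h : Nat.card G = 504) (y : G) (h3 : 3 ∣ orderOf y) (h7 : 7 ∣ orderOf y) : False :=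
  no_elt_of_order_mul (exists_ne h) 3 2 7 2 3 (by norm_num) (by norm_num) (by norm_num) (by norm_num)
    (by norm_num) (by norm_num) (by rw [h]; norm_num) y h3 h7

lemma no_order_14 (h : Nat.card G = 504) (y : G) (h2 : 2 ∣ orderOf y) (h7 : 7 ∣ orderOf y) : False :=
  no_elt_of_order_mul (exists_ne h) 2 3 7 3 2 (by norm_num) (by norm_num) (by norm_num) (by norm_num)
    (by norm_num) (by norm_num) (by rw [h]; norm_num) y h2 h7

lemma card_centralizer_three (h : Nat.card G = 504) (x : G) (hx : orderOf x = 3) :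
    Nat.card (centralizer ({x} : Set G)) = 9 := by
  have hpg : IsPGroup 3 (zpowers x) := IsPGroup.of_card (n := 1) (by rw [Nat.card_zpowers, hx]; norm_num)
  obtain ⟨P, hP⟩ := hpg.exists_le_sylow
  have hxP : x ∈ (P : Subgroup G) := hP (mem_zpowers x)
  obtain ⟨hP9, hN18⟩ := sylow3_facts h P
  obtain ⟨s, hsN, hs2, hinv⟩ := exists_inverting h P
  set C := centralizer ({x} : Set G) with hC
  have hPC : (P : Subgroup G) ≤ C := fun z hz => by
    rw [hC, Subgroup.mem_centralizer_singleton_iff]; exact sylow3_comm h P z hz x hxP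
  have hss : s * s = 1 := by rw [← sq, ← hs2]; exact pow_orderOf_eq_one s
  have hsinv : s⁻¹ = s := inv_eq_of_mul_eq_one_left hss
  have hsC : s ∉ C := by
    intro hmem
    rw [hC, Subgroup.mem_centralizer_singleton_iff] at hmem
    have h1 := hinv x hxP
    have h2 : x = x⁻¹ := by rw [← h1, hmem]; group
    have h3 : x ^ 2 = 1 := by
      rw [sq]
      nth_rewrite 2 [h2]
      exact mul_inv_cancel x
    have := orderOf_dvd_of_pow_eq_one h3
    rw [hx] at this
    omega
  have d1 : 9 ∣ Nat.card C := hP9 ▸ Subgroup.card_dvd_of_le hPC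
  have d2 : Nat.card C ∣ 504 := h ▸ Subgroup.card_subgroup_dvd_card C
  have h7 : ¬ 7 ∣ Nat.card C := by
    intro h7
    have : Fact (Nat.Prime 7) := ⟨by norm_num⟩
    obtain ⟨y', hy'⟩ := exists_prime_orderOf_dvd_card' (G := C) 7 h7
    have hy7 : orderOf (y' : G) = 7 := (Subgroup.orderOf_coe y').trans hy'
    have hcomm : Commute (y' : G) x := Subgroup.mem_centralizer_singleton_iff.mp y'.2
    have h21 : orderOf ((y' : G) * x) = 21 := by
      rw [hcomm.orderOf_mul_eq_mul_orderOf_of_coprime (by rw [hx, hy7]; norm_num), hx, hy7]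
    exact no_order_21 h _ (by rw [h21]; norm_num) (by rw [h21]; norm_num)
  set M := normalizer ((zpowers x : Subgroup G) : Set G) with hM
  have hCM : C ≤ M := by
    intro c hc
    rw [hC, Subgroup.mem_centralizer_singleton_iff] at hc
    apply mem_normalizer_zpowers
    · rw [hc]; simp
    · have : c⁻¹ * x * c = x := by rw [mul_assoc, ← hc]; group
      rw [this]; exact mem_zpowers x
  have hsM : s ∈ M := by
    have h1 := hinv x hxP
    apply mem_normalizer_zpowers
    · rw [h1]; exact inv_mem (mem_zpowers x)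
    · have : s⁻¹ * x * s = x⁻¹ := by
        rw [← h1, hsinv]
      rw [this]; exact inv_mem (mem_zpowers x)
  have hMtop : M ≠ ⊤ := by
    intro e
    have hn : (zpowers x).Normal := Subgroup.normalizer_eq_top_iff.mp e
    rcases normal_card _ hn with h1 | h1
    · rw [Nat.card_zpowers, hx] at h1; omega
    · rw [Nat.card_zpowers, hx, h] at h1; omega
  have hMle := card_le h M hMtop
  have d3 : Nat.card C ∣ Nat.card M := Subgroup.card_dvd_of_le hCM
  have hne : Nat.card C ≠ Nat.card M := by
    intro e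
    have : C = M := Subgroup.eq_of_le_of_card_ge hCM (by rw [e])
    exact hsC (this ▸ hsM)
  have hC31 : Nat.card C ≤ 31 := by
    obtain ⟨k, hk⟩ := d3
    have hMpos : 0 < Nat.card M := Nat.card_pos
    rcases k with _ | _ | k
    · omega
    · omega
    · nlinarith
  have h18 : Nat.card C ≠ 18 := by
    intro h18
    have hidx : ((P : Subgroup G).subgroupOf C).index = 2 := by
      have := ((P : Subgroup G).subgroupOf C).index_mul_card
      rw [card_subgroupOf_of_le hPC, hP9, h18] at this
      omega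
    have hn := Subgroup.normal_of_index_eq_two hidx
    have hCN := (Subgroup.normal_subgroupOf_iff_le_normalizer hPC).mp hn
    have : C = normalizer ((P : Subgroup G) : Set G) :=
      Subgroup.eq_of_le_of_card_ge hCN (by rw [h18, hN18])
    exact hsC (this ▸ hsN)
  generalize Nat.card C = c at *
  interval_cases c <;> omega

lemma no_order_6 (h : Nat.card G = 504) (g : G) (h6 : 6 ∣ orderOf g) : False := by
  obtain ⟨m, hm⟩ := h6
  have hpos : 0 < orderOf g := orderOf_pos g
  have hm0 : m ≠ 0 := by rintro rfl; omega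
  have hx : orderOf (g ^ (2 * m)) = 3 := by
    rw [orderOf_pow_of_dvd (by omega) ⟨3, by rw [hm]; ring⟩, hm]
    exact Nat.div_eq_of_eq_mul_left (by omega) (by ring)
  have ht : orderOf (g ^ (3 * m)) = 2 := by
    rw [orderOf_pow_of_dvd (by omega) ⟨2, by rw [hm]; ring⟩, hm]
    exact Nat.div_eq_of_eq_mul_left (by omega) (by ring)
  have hmem : g ^ (3 * m) ∈ centralizer ({g ^ (2 * m)} : Set G) := by
    rw [Subgroup.mem_centralizer_singleton_iff, ← pow_add, ← pow_add, add_comm]
  have := orderOf_dvd_natCard (⟨_, hmem⟩ : centralizer ({g ^ (2 * m)} : Set G))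
  rw [card_centralizer_three h _ hx, Subgroup.orderOf_mk, ht] at this
  omega

lemma orderOf_mem (h : Nat.card G = 504) (g : G) : orderOf g ∈ ({1, 2, 3, 4, 7, 8, 9} : Finset ℕ) := by
  have hd : orderOf g ∣ 504 := h ▸ orderOf_dvd_natCard g
  have key : ∀ d ∈ Nat.divisors 504, d ∈ ({1, 2, 3, 4, 7, 8, 9} : Finset ℕ) ∨ 6 ∣ d ∨ (2 ∣ d ∧ 7 ∣ d) ∨
      (3 ∣ d ∧ 7 ∣ d) := by decide +kernel
  rcases key _ (Nat.mem_divisors.mpr ⟨hd, by norm_num⟩) with h1 | h1 | h1 | h1
  · exact h1
  · exact (no_order_6 h g h1).elim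
  · exact (no_order_14 h g h1.1 h1.2).elim
  · exact (no_order_21 h g h1.1 h1.2).elim

lemma class_three (h : Nat.card G = 504) (x : G) (hx : orderOf x = 3) :
    56 ∣ Nat.card {g : G // IsConj x g} := by
  have h1 := card_conj_mul_card_centralizer x
  rw [card_centralizer_three h x hx, h] at h1
  exact ⟨1, by omega⟩

lemma class_nine (h : Nat.card G = 504) (x : G) (hx : orderOf x = 9) :
    56 ∣ Nat.card {g : G // IsConj x g} := by
  have h1 := card_conj_mul_card_centralizer x
  have hx3 : orderOf (x ^ 3) = 3 := by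
    rw [orderOf_pow_of_dvd (by norm_num) ⟨3, by rw [hx]⟩, hx]
  have hle : centralizer ({x} : Set G) ≤ centralizer ({x ^ 3} : Set G) := by
    intro c hc
    rw [Subgroup.mem_centralizer_singleton_iff] at hc ⊢
    exact (Commute.pow_right (show Commute c x from hc) 3)
  have hle2 : zpowers x ≤ centralizer ({x} : Set G) := by
    rintro _ ⟨k, rfl⟩
    rw [Subgroup.mem_centralizer_singleton_iff]
    exact ((Commute.refl x).zpow_left k)
  have d1 := Subgroup.card_dvd_of_le hle
  have d2 := Subgroup.card_dvd_of_le hle2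
  rw [card_centralizer_three h _ hx3] at d1
  rw [Nat.card_zpowers, hx] at d2
  rw [Nat.dvd_antisymm d1 d2, h] at h1
  exact ⟨1, by omega⟩

lemma class_two (h : Nat.card G = 504) (u : G) (hu : 2 ∣ orderOf u) :
    63 ∣ Nat.card {g : G // IsConj u g} := by
  have h1 := card_conj_mul_card_centralizer u
  rw [h] at h1
  have hno : ∀ p : ℕ, p.Prime → p ≠ 2 → p ∣ Nat.card (centralizer ({u} : Set G)) →
      ∃ y : G, 2 ∣ orderOf y ∧ p ∣ orderOf y := by
    intro p hp hp2 hdvd
    have : Fact p.Prime := ⟨hp⟩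
    obtain ⟨z, hz⟩ := exists_prime_orderOf_dvd_card' (G := centralizer ({u} : Set G)) p hdvd
    have hzp : orderOf (z : G) = p := (Subgroup.orderOf_coe z).trans hz
    have hcomm : Commute (z : G) u := Subgroup.mem_centralizer_singleton_iff.mp z.2
    have hmem := orderOf_mem h u
    have hcop : Nat.Coprime (orderOf (z : G)) (orderOf u) := by
      rw [hzp, Nat.Prime.coprime_iff_not_dvd hp]
      intro hpu
      simp only [Finset.mem_insert, Finset.mem_singleton] at hmem
      rcases hmem with e | e | e | e | e | e | e <;> rw [e] at hu hpu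
      · omega
      · exact hp2 ((Nat.prime_dvd_prime_iff_eq hp (by norm_num)).mp hpu)
      · omega
      · exact hp2 ((Nat.prime_dvd_prime_iff_eq hp (by norm_num)).mp
          (hp.dvd_of_dvd_pow (show p ∣ 2 ^ 2 from hpu)))
      · omega
      · exact hp2 ((Nat.prime_dvd_prime_iff_eq hp (by norm_num)).mp
          (hp.dvd_of_dvd_pow (show p ∣ 2 ^ 3 from hpu)))
      · omega
    refine ⟨(z : G) * u, ?_, ?_⟩
    · rw [hcomm.orderOf_mul_eq_mul_orderOf_of_coprime hcop]; exact Dvd.dvd.mul_left hu _
    · rw [hcomm.orderOf_mul_eq_mul_orderOf_of_coprime hcop, hzp]; exact Dvd.intro _ rfl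
  have h3 : ¬ 3 ∣ Nat.card (centralizer ({u} : Set G)) := by
    intro hd
    obtain ⟨y, hy2, hy3⟩ := hno 3 (by norm_num) (by norm_num) hd
    exact no_order_6 h y (Nat.Coprime.mul_dvd_of_dvd_of_dvd (by norm_num) hy2 hy3)
  have h7 : ¬ 7 ∣ Nat.card (centralizer ({u} : Set G)) := by
    intro hd
    obtain ⟨y, hy2, hy7⟩ := hno 7 (by norm_num) (by norm_num) hd
    exact no_order_14 h y hy2 hy7
  have hcop : Nat.Coprime 63 (Nat.card (centralizer ({u} : Set G))) := by
    have e : 63 = 3 ^ 2 * 7 := by norm_num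
    rw [e]
    exact Nat.Coprime.mul_left (Nat.Coprime.pow_left 2 ((Nat.Prime.coprime_iff_not_dvd (by norm_num)).mpr h3))
      ((Nat.Prime.coprime_iff_not_dvd (by norm_num)).mpr h7)
  exact hcop.dvd_of_dvd_mul_right (by rw [h1]; norm_num)

theorem orderOf_ne (h : Nat.card G = 504) (g : G) : orderOf g ≠ 4 ∧ orderOf g ≠ 8 := by
  have hsum := sum_card_orderOf_eq ({1, 2, 3, 4, 7, 8, 9} : Finset ℕ) (orderOf_mem h)
  rw [Finset.sum_insert (by decide), Finset.sum_insert (by decide), Finset.sum_insert (by decide),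
    Finset.sum_insert (by decide), Finset.sum_insert (by decide), Finset.sum_insert (by decide),
    Finset.sum_singleton, card_order7 h, h] at hsum
  have c1 : Nat.card {g : G // orderOf g = 1} = 1 := by
    rw [Nat.card_eq_one_iff_unique]
    refine ⟨⟨fun a b => Subtype.ext ?_⟩, ⟨⟨1, orderOf_one⟩⟩⟩
    rw [orderOf_eq_one_iff.mp a.2, orderOf_eq_one_iff.mp b.2]
  obtain ⟨b2, hb2⟩ := dvd_card_orderOf (G := G) 2 63 (fun x hx => class_two h x (by rw [hx]))
  obtain ⟨b4, hb4⟩ := dvd_card_orderOf (G := G) 4 63 (fun x hx => class_two h x (by rw [hx]; norm_num))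
  obtain ⟨b8, hb8⟩ := dvd_card_orderOf (G := G) 8 63 (fun x hx => class_two h x (by rw [hx]; norm_num))
  obtain ⟨a3, ha3⟩ := dvd_card_orderOf (G := G) 3 56 (fun x hx => class_three h x hx)
  obtain ⟨a9, ha9⟩ := dvd_card_orderOf (G := G) 9 56 (fun x hx => class_nine h x hx)
  have : Fact (Nat.Prime 2) := ⟨by norm_num⟩
  obtain ⟨t, ht⟩ := exists_prime_orderOf_dvd_card' (G := G) 2 (by rw [h]; norm_num)
  have hpos : 0 < Nat.card {g : G // orderOf g = 2} := by
    have : Nonempty {g : G // orderOf g = 2} := ⟨⟨t, ht⟩⟩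
    exact Nat.card_pos
  have h4 : Nat.card {g : G // orderOf g = 4} = 0 := by omega
  have h8 : Nat.card {g : G // orderOf g = 8} = 0 := by omega
  constructor
  · intro hg
    have : Nonempty {g : G // orderOf g = 4} := ⟨⟨g, hg⟩⟩
    have := Nat.card_pos (α := {g : G // orderOf g = 4})
    omega
  · intro hg
    have : Nonempty {g : G // orderOf g = 8} := ⟨⟨g, hg⟩⟩
    have := Nat.card_pos (α := {g : G // orderOf g = 8})
    omega

/-- centralizers of involutions have exponent two -/
theorem sq_eq_one (h : Nat.card G = 504) (t c : G) (ht : orderOf t = 2)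
    (hc : c ∈ centralizer ({t} : Set G)) : c ^ 2 = 1 := by
  have hcomm : Commute c t := Subgroup.mem_centralizer_singleton_iff.mp hc
  have hmem := orderOf_mem h c
  have hne := orderOf_ne h c
  simp only [Finset.mem_insert, Finset.mem_singleton] at hmem
  have hodd : ∀ d, orderOf c = d → Nat.Coprime d 2 → orderOf (c * t) = d * 2 := by
    intro d hd hcop
    rw [hcomm.orderOf_mul_eq_mul_orderOf_of_coprime (by rw [hd, ht]; exact hcop), hd, ht]
  rcases hmem with e | e | e | e | e | e | e
  · rw [orderOf_eq_one_iff.mp e, one_pow]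
  · rw [← e]; exact pow_orderOf_eq_one c
  · exact (no_order_6 h (c * t) (by rw [hodd 3 e (by norm_num)])).elim
  · exact absurd e hne.1
  · exact (no_order_14 h (c * t) (by rw [hodd 7 e (by norm_num)]; norm_num)
      (by rw [hodd 7 e (by norm_num)]; norm_num)).elim
  · exact absurd e hne.2
  · exact (no_order_6 h (c * t) (by rw [hodd 9 e (by norm_num)]; norm_num)).elim

end Cfsg.Agent.Lib.Helper17.Ord504
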