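import Mathlib
import Cfsg.Agent.Lib.Helper5.SLGen
import Cfsg.Agent.Lib.Helper5.LinearCard

set_option autoImplicit false
set_option linter.unusedSectionVars false
set_option linter.style.haveILetI false

/-! Permutations of the projective line `OnePoint F` : affine maps, `x ↦ c / x`, and the action of
`SL₂(F)`. -/

namespace Cfsg.Agent.Lib.Helper17

open OnePoint Matrix

variable {F : Type*} [Field F] [DecidableEq F]

/-- the affine map `x ↦ a x + b` of the projective line -/
def aff (a : Fˣ) (b : F) : Equiv.Perm (OnePoint F) where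
  toFun x := match x with
    | ∞ => ∞
    | OnePoint.some x => ((a * x + b : F) : OnePoint F)
  invFun x := match x with
    | ∞ => ∞
    | OnePoint.some x => (((a⁻¹ : Fˣ) * (x - b) : F) : OnePoint F)
  left_inv x := by
    cases x with
    | infty => rfl
    | coe x =>
      show (((a⁻¹ : Fˣ) * ((a * x + b) - b) : F) : OnePoint F) = x
      congr 1
      simp
  right_inv x := by
    cases x with
    | infty => rfl
    | coe x =>
      show ((a * ((a⁻¹ : Fˣ) * (x - b)) + b : F) : OnePoint F) = x
      congr 1
      simp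

@[simp] lemma aff_infty (a : Fˣ) (b : F) : aff a b ∞ = ∞ := rfl
@[simp] lemma aff_coe (a : Fˣ) (b : F) (x : F) : aff a b (x : OnePoint F) = ((a * x + b : F) : OnePoint F) := rfl

lemma aff_mul (a a' : Fˣ) (b b' : F) : aff a b * aff a' b' = aff (a * a') (a * b' + b) := by
  ext x
  cases x with
  | infty => rfl
  | coe x =>
    simp only [Equiv.Perm.mul_apply, aff_coe, Units.val_mul]
    congr 1
    ring

lemma aff_one : aff (1 : Fˣ) (0 : F) = 1 := by
  ext x
  cases x with
  | infty => rfl
  | coe x => simp

lemma aff_inv (a : Fˣ) (b : F) : (aff a b)⁻¹ = aff a⁻¹ (-((a⁻¹ : Fˣ) * b)) := by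
  rw [inv_eq_iff_mul_eq_one, aff_mul, ← aff_one]
  congr 1 <;> simp

lemma aff_injective {a a' : Fˣ} {b b' : F} (h : aff a b = aff a' b') : a = a' ∧ b = b' := by
  have h0 := congrArg (fun g : Equiv.Perm (OnePoint F) => g ((0 : F) : OnePoint F)) h
  have h1 := congrArg (fun g : Equiv.Perm (OnePoint F) => g ((1 : F) : OnePoint F)) h
  simp only [aff_coe, mul_zero, zero_add, mul_one, OnePoint.coe_eq_coe] at h0 h1
  refine ⟨?_, h0⟩
  rw [h0] at h1
  exact Units.ext (add_right_cancel h1)

/-- the map `x ↦ c / x` of the projective line -/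
def invc (c : Fˣ) : Equiv.Perm (OnePoint F) where
  toFun x := match x with
    | ∞ => ((0 : F) : OnePoint F)
    | OnePoint.some x => if x = 0 then ∞ else ((c / x : F) : OnePoint F)
  invFun x := match x with
    | ∞ => ((0 : F) : OnePoint F)
    | OnePoint.some x => if x = 0 then ∞ else ((c / x : F) : OnePoint F)
  left_inv x := by
    cases x with
    | infty => simp
    | coe x =>
      by_cases hx : x = 0
      · simp [hx]
      · have : (c : F) / x ≠ 0 := div_ne_zero c.ne_zero hx
        simp [hx]
  right_inv x := by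
    cases x with
    | infty => simp
    | coe x =>
      by_cases hx : x = 0
      · simp [hx]
      · have : (c : F) / x ≠ 0 := div_ne_zero c.ne_zero hx
        simp [hx]

@[simp] lemma invc_infty (c : Fˣ) : invc c ∞ = ((0 : F) : OnePoint F) := rfl
@[simp] lemma invc_zero (c : Fˣ) : invc c ((0 : F) : OnePoint F) = ∞ := by
  show (if (0 : F) = 0 then ∞ else (((c : F) / 0 : F) : OnePoint F)) = ∞
  simp
lemma invc_coe (c : Fˣ) {x : F} (hx : x ≠ 0) :
    invc c (x : OnePoint F) = ((c / x : F) : OnePoint F) := by
  show (if x = 0 then ∞ else (((c : F) / x : F) : OnePoint F)) = _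
  simp [hx]

lemma invc_inv (c : Fˣ) : (invc c)⁻¹ = invc c := rfl

lemma invc_mul_self (c : Fˣ) : invc c * invc c = 1 := by
  rw [← inv_eq_iff_mul_eq_one, invc_inv]

/-- the action of `SL₂(F)` on the projective line as a homomorphism -/
def slPerm : SpecialLinearGroup (Fin 2) F →* Equiv.Perm (OnePoint F) :=
  (MulAction.toPermHom (GL (Fin 2) F) (OnePoint F)).comp SpecialLinearGroup.toGL

lemma slPerm_infty (A : SpecialLinearGroup (Fin 2) F) :
    slPerm A ∞ = if A 1 0 = 0 then ∞ else ((A 0 0 / A 1 0 : F) : OnePoint F) :=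
  OnePoint.smul_infty_eq_ite (SpecialLinearGroup.toGL A)

lemma slPerm_coe (A : SpecialLinearGroup (Fin 2) F) (x : F) :
    slPerm A (x : OnePoint F) = if A 1 0 * x + A 1 1 = 0 then ∞ else
      (((A 0 0 * x + A 0 1) / (A 1 0 * x + A 1 1) : F) : OnePoint F) :=
  OnePoint.smul_some_eq_ite (g := SpecialLinearGroup.toGL A)

lemma slPerm_transvection_upper (c : F) :
    slPerm (SpecialLinearGroup.transvection (show (0 : Fin 2) ≠ 1 by decide) c) = aff 1 c := by
  ext x
  cases x with
  | infty => simp [slPerm_infty, SpecialLinearGroup.transvection_coe]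
  | coe x => simp [slPerm_coe, SpecialLinearGroup.transvection_coe]

lemma slPerm_transvection_lower (c0 : Fˣ) (c : F) :
    slPerm (SpecialLinearGroup.transvection (show (1 : Fin 2) ≠ 0 by decide) c) =
      invc c0 * aff 1 (c * c0) * invc c0 := by
  ext x
  cases x with
  | infty =>
    by_cases hc : c = 0
    · simp [slPerm_infty, SpecialLinearGroup.transvection_coe, hc]
    · have : c * (c0 : F) ≠ 0 := mul_ne_zero hc c0.ne_zero
      simp [slPerm_infty, SpecialLinearGroup.transvection_coe, hc, invc_coe _ this]
      field_simp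
  | coe x =>
    by_cases hx : x = 0
    · simp [slPerm_coe, SpecialLinearGroup.transvection_coe, hx]
    · simp only [slPerm_coe, SpecialLinearGroup.transvection_coe, Equiv.Perm.mul_apply, invc_coe _ hx,
        aff_coe]
      by_cases h : c * x + 1 = 0
      · have h2 : ((1 : Fˣ) : F) * ((c0 : F) / x) + c * c0 = 0 := by
          have : ((1 : Fˣ) : F) * ((c0 : F) / x) + c * c0 = c0 * (c * x + 1) / x := by
            field_simp
            simp
            ring
          rw [this, h]; simp
        rw [h2]
        simp [h]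
      · have h2 : ((1 : Fˣ) : F) * ((c0 : F) / x) + c * c0 ≠ 0 := by
          have : ((1 : Fˣ) : F) * ((c0 : F) / x) + c * c0 = c0 * (c * x + 1) / x := by
            field_simp
            simp
            ring
          rw [this]
          exact div_ne_zero (mul_ne_zero c0.ne_zero h) hx
        rw [invc_coe _ h2]
        simp [h]
        field_simp
        simp
        ring

/-- a group of permutations of the projective line containing the translations and one map
`x ↦ c / x` contains the image of `SL₂(F)` -/
theorem range_slPerm_le (Γ : Subgroup (Equiv.Perm (OnePoint F))) (h1 : ∀ b : F, aff 1 b ∈ Γ)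
    (c0 : Fˣ) (h2 : invc c0 ∈ Γ) : (slPerm (F := F)).range ≤ Γ := by
  rintro _ ⟨A, rfl⟩
  refine Cfsg.Agent.Lib.Helper5.SL_transvection_induction (fun A => slPerm A ∈ Γ) ?_ ?_ A
  · intro i j h c
    fin_cases i <;> fin_cases j
    · exact absurd rfl h
    · show slPerm (SpecialLinearGroup.transvection (show (0 : Fin 2) ≠ 1 by decide) c) ∈ Γ
      rw [slPerm_transvection_upper]
      exact h1 c
    · show slPerm (SpecialLinearGroup.transvection (show (1 : Fin 2) ≠ 0 by decide) c) ∈ Γ
      rw [slPerm_transvection_lower c0]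
      exact Γ.mul_mem (Γ.mul_mem h2 (h1 _)) h2
    · exact absurd rfl h
  · intro A B hA hB
    show slPerm (A * B) ∈ Γ
    rw [map_mul]
    exact Γ.mul_mem hA hB

lemma ker_slPerm : (slPerm (F := F)).ker = Subgroup.center (SpecialLinearGroup (Fin 2) F) := by
  ext A
  rw [MonoidHom.mem_ker, Matrix.SpecialLinearGroup.mem_center_iff]
  constructor
  · intro h
    have hinf := congrArg (fun g : Equiv.Perm (OnePoint F) => g ∞) h
    have h0 := congrArg (fun g : Equiv.Perm (OnePoint F) => g ((0 : F) : OnePoint F)) h
    have h1 := congrArg (fun g : Equiv.Perm (OnePoint F) => g ((1 : F) : OnePoint F)) h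
    simp only [slPerm_infty, slPerm_coe, Equiv.Perm.one_apply] at hinf h0 h1
    have hc : A 1 0 = 0 := by
      by_contra hc
      simp [hc] at hinf
    have hdet := A.2
    rw [Matrix.det_fin_two] at hdet
    have hc' : (A : Matrix (Fin 2) (Fin 2) F) 1 0 = 0 := hc
    rw [hc'] at hdet
    have hd : A 1 1 ≠ 0 := by
      intro hd
      have hd' : (A : Matrix (Fin 2) (Fin 2) F) 1 1 = 0 := hd
      rw [hd'] at hdet
      simp at hdet
    simp only [hc, zero_mul, zero_add, hd, if_false, mul_zero, mul_one, OnePoint.coe_eq_coe] at h0 h1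
    have hb : A 0 1 = 0 := by
      rcases div_eq_zero_iff.mp h0 with h | h
      · exact h
      · exact absurd h hd
    rw [hb, add_zero, div_eq_one_iff_eq hd] at h1
    refine ⟨A 0 0, ?_, ?_⟩
    · have h1' : (A : Matrix (Fin 2) (Fin 2) F) 1 1 = (A : Matrix (Fin 2) (Fin 2) F) 0 0 := h1.symm
      rw [h1'] at hdet
      simp only [Fintype.card_fin]
      rw [sq]
      simpa using hdet
    · ext i j
      fin_cases i <;> fin_cases j
      · simp
      · simpa using hb.symm
      · simpa using hc.symm
      · simpa using h1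
  · rintro ⟨r, hr, hA⟩
    have e00 : A 0 0 = r := by rw [← hA]; simp
    have e01 : A 0 1 = 0 := by rw [← hA]; simp
    have e10 : A 1 0 = 0 := by rw [← hA]; simp
    have e11 : A 1 1 = r := by rw [← hA]; simp
    have hr0 : r ≠ 0 := by
      intro h
      rw [h] at hr
      simp at hr
    ext x
    cases x with
    | infty => simp [slPerm_infty, e10]
    | coe x => simp [slPerm_coe, e00, e01, e10, e11, hr0]

/-- `PSL₂(F)` is isomorphic to the image of `SL₂(F)` in the permutations of the projective line -/
noncomputable def pslEquivRange :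
    Matrix.ProjectiveSpecialLinearGroup (Fin 2) F ≃* (slPerm (F := F)).range :=
  (QuotientGroup.quotientMulEquivOfEq ker_slPerm.symm).trans
    (QuotientGroup.quotientKerEquivRange slPerm)

end Cfsg.Agent.Lib.Helper17
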