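import Mathlib
import Cfsg.Agent.Lib.Helper17.Basic
import Cfsg.Agent.Lib.Helper17.PSLAff

set_option autoImplicit false
set_option linter.unusedSectionVars false
set_option linter.style.haveILetI false
set_option linter.unusedVariables false

/-! Recognition of `PSL₂(p)` as a permutation group on the projective line over a field with `p`
elements. -/

namespace Cfsg.Agent.Lib.Helper17

open OnePoint

variable {F : Type*} [Field F] [Fintype F] [DecidableEq F]

lemma natCast_surj {p : ℕ} (hp : p.Prime) (hF : Fintype.card F = p) (x : F) :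
    ∃ n : ℕ, (n : F) = x := by
  have : NeZero p := ⟨hp.ne_zero⟩
  let e := ZMod.ringEquivOfPrime F hp hF
  refine ⟨(e.symm x).val, ?_⟩
  have h1 : ((e.symm x).val : ZMod p) = e.symm x := ZMod.natCast_zmod_val _
  have h2 : e (((e.symm x).val : ℕ) : ZMod p) = (((e.symm x).val : ℕ) : F) := map_natCast e _
  rw [← h2, h1]
  simp

omit [Fintype F] in
lemma aff_one_pow (n : ℕ) : (aff (1 : Fˣ) (1 : F)) ^ n = aff 1 (n : F) := by
  induction n with
  | zero => simp [aff_one]
  | succ n ih =>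
    rw [pow_succ, ih, aff_mul]
    congr 1
    · simp
    · push_cast; simp; ring

/-- multiplication maps as a homomorphism -/
def mulHom : Fˣ →* Equiv.Perm (OnePoint F) where
  toFun a := aff a 0
  map_one' := aff_one
  map_mul' a b := by rw [aff_mul]; simp

omit [Fintype F] in
@[simp] lemma mulHom_apply (a : Fˣ) : mulHom a = aff a (0 : F) := rfl

/-- The hypotheses on the permutation group `Γ`. -/
structure PLine (Γ : Subgroup (Equiv.Perm (OnePoint F))) : Prop where
  tau : aff 1 1 ∈ Γ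
  norm : ∀ g ∈ Γ, g ∞ = ∞ → ∃ k : ℕ, g * aff 1 1 * g⁻¹ = (aff 1 1) ^ k
  trans : ∀ x : OnePoint F, ∃ g ∈ Γ, g ∞ = x
  cast : ∀ x : F, ∃ n : ℕ, (n : F) = x
  two_ne : (2 : F) ≠ 0

variable {Γ : Subgroup (Equiv.Perm (OnePoint F))}

/-- the group of multipliers -/
def mult (Γ : Subgroup (Equiv.Perm (OnePoint F))) : Subgroup Fˣ := Γ.comap mulHom

omit [Fintype F] in
lemma mem_mult {a : Fˣ} : a ∈ mult Γ ↔ aff a 0 ∈ Γ := Iff.rfl

lemma PLine.translation (h : PLine Γ) (b : F) :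
    aff 1 b ∈ Γ := by
  obtain ⟨n, rfl⟩ := h.cast b
  rw [← aff_one_pow]
  exact Γ.pow_mem h.tau n

lemma PLine.aff_mem_iff (h : PLine Γ) (a : Fˣ) (b : F) :
    aff a b ∈ Γ ↔ a ∈ mult Γ := by
  have h1 : aff a b = aff 1 b * aff a 0 := by rw [aff_mul]; simp
  rw [mem_mult, h1]
  exact Γ.mul_mem_cancel_left (h.translation b)

lemma PLine.affine (h : PLine Γ)
    {g : Equiv.Perm (OnePoint F)} (hg : g ∈ Γ) (hinf : g ∞ = ∞) :
    ∃ (a : Fˣ) (b : F), a ∈ mult Γ ∧ g = aff a b := by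
  obtain ⟨k, hk⟩ := h.norm g hg hinf
  have hk' : g * aff 1 1 = aff 1 (k : F) * g := by
    rw [← aff_one_pow, ← hk]; group
  have hne : ∀ x : F, ∃ y : F, g (x : OnePoint F) = (y : OnePoint F) := by
    intro x
    cases hx : g (x : OnePoint F) with
    | infty =>
      exfalso
      rw [← hinf] at hx
      exact OnePoint.coe_ne_infty x (g.injective hx)
    | coe y => exact ⟨y, rfl⟩
  choose γ hγ using hne
  have hstep : ∀ x : F, γ (x + 1) = γ x + k := by
    intro x
    have h1 := congrArg (fun s : Equiv.Perm (OnePoint F) => s (x : OnePoint F)) hk'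
    simp only [Equiv.Perm.mul_apply, aff_coe, hγ, Units.val_one, one_mul, OnePoint.coe_eq_coe] at h1
    exact h1
  have hnat : ∀ n : ℕ, γ (n : F) = k * n + γ 0 := by
    intro n
    induction n with
    | zero => simp
    | succ n ih => push_cast; rw [hstep, ih]; ring
  have hk0 : (k : F) ≠ 0 := by
    intro hk0
    have h1 := hnat 1
    rw [hk0] at h1
    simp only [Nat.cast_one, zero_mul, zero_add] at h1
    have h2 : g ((1 : F) : OnePoint F) = g ((0 : F) : OnePoint F) := by rw [hγ, hγ, h1]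
    have h3 := g.injective h2
    rw [OnePoint.coe_eq_coe] at h3
    exact one_ne_zero h3
  have hga : g = aff (Units.mk0 (k : F) hk0) (γ 0) := by
    ext x
    cases x with
    | infty => rw [hinf]; rfl
    | coe x =>
      obtain ⟨n, rfl⟩ := h.cast x
      rw [hγ, hnat]; rfl
  refine ⟨_, _, ?_, hga⟩
  rw [← h.aff_mem_iff _ (γ 0), ← hga]
  exact hg

/-- the order of `Γ` -/
lemma PLine.card (h : PLine Γ) :
    Nat.card Γ = (Fintype.card F + 1) * (Nat.card (mult Γ) * Fintype.card F) := by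
  have hpre : MulAction.IsPretransitive ↥Γ (OnePoint F) := by
    refine ⟨fun x y => ?_⟩
    obtain ⟨g1, hg1, h1⟩ := h.trans x
    obtain ⟨g2, hg2, h2⟩ := h.trans y
    refine ⟨⟨g2 * g1⁻¹, Γ.mul_mem hg2 (Γ.inv_mem hg1)⟩, ?_⟩
    show (g2 * g1⁻¹) x = y
    rw [← h1, ← h2]
    simp
  have h1 := MulAction.index_stabilizer_of_transitive ↥Γ (∞ : OnePoint F)
  have h2 := (MulAction.stabilizer ↥Γ (∞ : OnePoint F)).index_mul_card
  have h3 : Nat.card (OnePoint F) = Fintype.card F + 1 := by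
    rw [Nat.card_eq_fintype_card]
    exact Fintype.card_option
  have h4 : Nat.card ↥(MulAction.stabilizer ↥Γ (∞ : OnePoint F)) = Nat.card (mult Γ) * Fintype.card F := by
    rw [← Nat.card_eq_fintype_card (α := F), ← Nat.card_prod]
    symm
    apply Nat.card_congr
    refine Equiv.ofBijective (fun ab : ↥(mult Γ) × F =>
      (⟨⟨aff ab.1.1 ab.2, (h.aff_mem_iff _ _).mpr ab.1.2⟩, rfl⟩ : ↥(MulAction.stabilizer ↥Γ (∞ : OnePoint F)))) ⟨?_, ?_⟩
    · rintro ⟨⟨a, ha⟩, b⟩ ⟨⟨a', ha'⟩, b'⟩ hab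
      have h5 : aff a b = aff a' b' := congrArg (fun z : ↥(MulAction.stabilizer ↥Γ (∞ : OnePoint F)) => (z.1.1)) hab
      obtain ⟨h6, h7⟩ := aff_injective h5
      subst h6 h7
      rfl
    · rintro ⟨⟨g, hg⟩, hfix⟩
      obtain ⟨a, b, ha, rfl⟩ := h.affine hg hfix
      exact ⟨⟨⟨a, ha⟩, b⟩, rfl⟩
  rw [← h2, h1, h3, h4]

lemma PLine.fix_both (h : PLine Γ) {g : Equiv.Perm (OnePoint F)} (hg : g ∈ Γ) (hinf : g ∞ = ∞)
    (h0 : g ((0 : F) : OnePoint F) = ((0 : F) : OnePoint F)) : ∃ a ∈ mult Γ, g = aff a 0 := by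
  obtain ⟨a, b, ha, rfl⟩ := h.affine hg hinf
  simp only [aff_coe, mul_zero, zero_add, OnePoint.coe_eq_coe] at h0
  exact ⟨a, ha, by rw [h0]⟩

lemma PLine.two_trans (h : PLine Γ) {y1 y2 : OnePoint F} (hne : y1 ≠ y2) :
    ∃ g ∈ Γ, g y1 = ∞ ∧ g y2 = ((0 : F) : OnePoint F) := by
  obtain ⟨g1, hg1, h1⟩ := h.trans y1
  have h2 : g1⁻¹ y1 = ∞ := by rw [← h1]; simp
  cases hw : g1⁻¹ y2 with
  | infty =>
    exfalso
    rw [← h2] at hw
    exact hne (g1⁻¹.injective hw).symm
  | coe w =>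
    refine ⟨aff 1 (-w) * g1⁻¹, Γ.mul_mem (h.translation _) (Γ.inv_mem hg1), ?_, ?_⟩
    · rw [Equiv.Perm.mul_apply, h2]; rfl
    · rw [Equiv.Perm.mul_apply, hw, aff_coe]; simp

lemma PLine.eq_one_of_fix3 (h : PLine Γ) {g : Equiv.Perm (OnePoint F)} (hg : g ∈ Γ)
    {y1 y2 y3 : OnePoint F} (h12 : y1 ≠ y2) (h13 : y1 ≠ y3) (h23 : y2 ≠ y3)
    (f1 : g y1 = y1) (f2 : g y2 = y2) (f3 : g y3 = y3) : g = 1 := by
  obtain ⟨k, hk, k1, k2⟩ := h.two_trans h12
  have hs : k * g * k⁻¹ ∈ Γ := Γ.mul_mem (Γ.mul_mem hk hg) (Γ.inv_mem hk)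
  have e1 : k⁻¹ ∞ = y1 := by rw [← k1]; simp
  have e2 : k⁻¹ ((0 : F) : OnePoint F) = y2 := by rw [← k2]; simp
  obtain ⟨a, ha, hsa⟩ := h.fix_both hs (by simp only [Equiv.Perm.mul_apply, e1, f1, k1]) (by simp only [Equiv.Perm.mul_apply, e2, f2, k2])
  cases hw : k y3 with
  | infty =>
    exfalso
    rw [← k1] at hw
    exact h13 (k.injective hw).symm
  | coe w =>
    have hw0 : w ≠ 0 := by
      rintro rfl
      rw [← k2] at hw
      exact h23 (k.injective hw).symm
    have e3 : k⁻¹ (w : OnePoint F) = y3 := by rw [← hw]; simp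
    have h5 : (k * g * k⁻¹) (w : OnePoint F) = (w : OnePoint F) := by simp only [Equiv.Perm.mul_apply, e3, f3, hw]
    rw [hsa, aff_coe, OnePoint.coe_eq_coe, add_zero] at h5
    have ha1 : a = 1 := by
      apply Units.ext
      have := mul_right_cancel₀ hw0 (h5.trans (one_mul w).symm)
      simpa using this
    rw [ha1, aff_one] at hsa
    have : g = k⁻¹ * (k * g * k⁻¹) * k := by group
    rw [this, hsa]; group

lemma PLine.exists_swap (h : PLine Γ) :
    ∃ t ∈ Γ, t ∞ = ((0 : F) : OnePoint F) ∧ t ((0 : F) : OnePoint F) = ∞ := by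
  obtain ⟨g, hg, h1, h2⟩ := h.two_trans (OnePoint.coe_ne_infty (0 : F))
  exact ⟨g, hg, h2, h1⟩

lemma PLine.swap_eq (h : PLine Γ) {t t' : Equiv.Perm (OnePoint F)} (ht : t ∈ Γ) (ht' : t' ∈ Γ)
    (t1 : t ∞ = ((0 : F) : OnePoint F)) (t2 : t ((0 : F) : OnePoint F) = ∞)
    (t1' : t' ∞ = ((0 : F) : OnePoint F)) (t2' : t' ((0 : F) : OnePoint F) = ∞) :
    ∃ a ∈ mult Γ, t' = t * aff a 0 := by
  have e1 : t⁻¹ ∞ = ((0 : F) : OnePoint F) := by rw [← t2]; simp
  have e2 : t⁻¹ ((0 : F) : OnePoint F) = ∞ := by rw [← t1]; simp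
  obtain ⟨a, ha, hsa⟩ := h.fix_both (Γ.mul_mem (Γ.inv_mem ht) ht') (by simp only [Equiv.Perm.mul_apply, t1', e2]) (by simp only [Equiv.Perm.mul_apply, t2', e1])
  exact ⟨a, ha, by rw [← hsa]; group⟩

/-- `t` is an involution in `Γ` interchanging `0` and `∞` and inverting the multiplications -/
structure InvSwap (Γ : Subgroup (Equiv.Perm (OnePoint F))) (t : Equiv.Perm (OnePoint F)) : Prop where
  mem : t ∈ Γ
  sq : t * t = 1
  inf : t ∞ = ((0 : F) : OnePoint F)
  inv : ∀ a ∈ mult Γ, t * aff a 0 = aff a⁻¹ 0 * t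

omit [Fintype F] in
lemma InvSwap.apply_apply {t : Equiv.Perm (OnePoint F)} (ht : InvSwap Γ t) (x : OnePoint F) :
    t (t x) = x := by
  have := congrArg (fun s : Equiv.Perm (OnePoint F) => s x) ht.sq
  simpa using this

omit [Fintype F] in
lemma InvSwap.zero {t : Equiv.Perm (OnePoint F)} (ht : InvSwap Γ t) :
    t ((0 : F) : OnePoint F) = ∞ := by
  rw [← ht.inf, ht.apply_apply]

omit [Fintype F] in
lemma InvSwap.exists_f {t : Equiv.Perm (OnePoint F)} (ht : InvSwap Γ t) :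
    ∃ f : Fˣ → Fˣ, (∀ x : Fˣ, t ((x : F) : OnePoint F) = ((f x : F) : OnePoint F)) ∧
      (∀ x, f (f x) = x) ∧ (∀ a ∈ mult Γ, ∀ x, f (a * x) = a⁻¹ * f x) := by
  have hex : ∀ x : Fˣ, ∃ y : Fˣ, t ((x : F) : OnePoint F) = ((y : F) : OnePoint F) := by
    intro x
    cases hx : t ((x : F) : OnePoint F) with
    | infty =>
      exfalso
      rw [← ht.zero] at hx
      have := t.injective hx
      rw [OnePoint.coe_eq_coe] at this
      exact x.ne_zero this
    | coe y =>
      have hy : y ≠ 0 := by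
        rintro rfl
        rw [← ht.inf] at hx
        exact OnePoint.coe_ne_infty _ (t.injective hx)
      exact ⟨Units.mk0 y hy, rfl⟩
  choose f hf using hex
  refine ⟨f, hf, ?_, ?_⟩
  · intro x
    have h1 := ht.apply_apply ((x : F) : OnePoint F)
    rw [hf, hf, OnePoint.coe_eq_coe] at h1
    exact Units.ext h1
  · intro a ha x
    have h1 := congrArg (fun s : Equiv.Perm (OnePoint F) => s ((x : F) : OnePoint F)) (ht.inv a ha)
    simp only [Equiv.Perm.mul_apply, aff_coe, add_zero, hf] at h1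
    rw [← Units.val_mul, hf, OnePoint.coe_eq_coe, ← Units.val_mul] at h1
    exact Units.ext h1

omit [Fintype F] in
lemma InvSwap.eq_invc {t : Equiv.Perm (OnePoint F)} (ht : InvSwap Γ t) (f : Fˣ → Fˣ)
    (hf : ∀ x : Fˣ, t ((x : F) : OnePoint F) = ((f x : F) : OnePoint F)) (c : Fˣ)
    (hc : ∀ x, f x = c * x⁻¹) : t = invc c := by
  ext x
  cases x with
  | infty => rw [ht.inf]; rfl
  | coe x =>
    by_cases hx : x = 0
    · subst hx
      rw [ht.zero, invc_zero]
    · rw [invc_coe _ hx]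
      have := hf (Units.mk0 x hx)
      rw [hc] at this
      simp only [Units.val_mk0, Units.val_mul, Units.val_inv_eq_inv_val] at this
      rw [this, div_eq_mul_inv]

/-- an involution of `Γ` has no fixed point when the group of multipliers has odd order -/
lemma PLine.no_fix_of_odd (h : PLine Γ) (hodd : Odd (Nat.card (mult Γ)))
    {t : Equiv.Perm (OnePoint F)} (ht : t ∈ Γ) (hsq : t * t = 1) (hne : t ≠ 1) (x : OnePoint F) :
    t x ≠ x := by
  intro hx
  obtain ⟨g, hg, hgx⟩ := h.trans x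
  have e1 : g⁻¹ x = ∞ := by rw [← hgx]; simp
  have hs : g⁻¹ * t * g ∈ Γ := Γ.mul_mem (Γ.mul_mem (Γ.inv_mem hg) ht) hg
  obtain ⟨a, b, ha, hab⟩ := h.affine hs (by simp only [Equiv.Perm.mul_apply, hgx, hx, e1])
  have hss : (g⁻¹ * t * g) * (g⁻¹ * t * g) = 1 := by
    have : (g⁻¹ * t * g) * (g⁻¹ * t * g) = g⁻¹ * (t * t) * g := by group
    rw [this, hsq]; group
  rw [hab, aff_mul, ← aff_one] at hss
  obtain ⟨h1, h2⟩ := aff_injective hss
  have ha1 : a = 1 := by
    obtain ⟨k, hk⟩ := hodd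
    have h3 : (⟨a, ha⟩ : ↥(mult Γ)) ^ (Nat.card (mult Γ)) = 1 := pow_card_eq_one'
    have h4 : a ^ (Nat.card (mult Γ)) = 1 := congrArg Subtype.val h3
    rw [hk, pow_succ, pow_mul, sq, h1, one_pow, one_mul] at h4
    exact h4
  rw [ha1] at h2
  have hb : b = 0 := by
    have : (2 : F) * b = 0 := by
      rw [two_mul]; simpa using h2
    rcases mul_eq_zero.mp this with h5 | h5
    · exact absurd h5 h.two_ne
    · exact h5
  rw [ha1, hb, aff_one] at hab
  apply hne
  have : t = g * (g⁻¹ * t * g) * g⁻¹ := by group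
  rw [this, hab]; group

lemma InvSwap.eq_invc_of_odd (h : PLine Γ) {t : Equiv.Perm (OnePoint F)} (ht : InvSwap Γ t)
    (hidx : (mult Γ).index = 2) (hodd : Odd (Nat.card (mult Γ))) : ∃ c : Fˣ, t = invc c := by
  obtain ⟨f, hf, hff, hfa⟩ := ht.exists_f
  have hne : t ≠ 1 := by
    intro h1
    have := ht.inf
    rw [h1] at this
    exact OnePoint.infty_ne_coe _ this
  set c := f 1 with hc
  have hcM : c ∉ mult Γ := by
    intro hcM
    -- c is a square in M
    obtain ⟨k, hk⟩ := hodd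
    have h3 : (⟨c, hcM⟩ : ↥(mult Γ)) ^ (Nat.card (mult Γ)) = 1 := pow_card_eq_one'
    have h4 : c ^ (Nat.card (mult Γ)) = 1 := congrArg Subtype.val h3
    have h5 : (c ^ (k + 1)) * (c ^ (k + 1)) = c := by
      rw [← pow_add]
      have : k + 1 + (k + 1) = (2 * k + 1) + 1 := by ring
      rw [this, pow_succ, ← hk, h4, one_mul]
    have hx : c ^ (k + 1) ∈ mult Γ := (mult Γ).pow_mem hcM _
    have h6 := hfa _ hx 1
    rw [mul_one, ← hc] at h6
    have h7 : f (c ^ (k + 1)) = c ^ (k + 1) := by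
      rw [h6, inv_mul_eq_iff_eq_mul, h5]
    apply h.no_fix_of_odd ⟨k, hk⟩ ht.mem ht.sq hne (((c ^ (k + 1) : Fˣ) : F) : OnePoint F)
    rw [hf, h7]
  refine ⟨c, ht.eq_invc f hf c ?_⟩
  intro x
  by_cases hx : x ∈ mult Γ
  · have := hfa x hx 1
    rw [mul_one, ← hc] at this
    rw [this, mul_comm]
  · have hy : c * x⁻¹ ∈ mult Γ := by
      rw [Subgroup.mul_mem_iff_of_index_two hidx, inv_mem_iff]
      exact ⟨fun h => absurd h hcM, fun h => absurd h hx⟩
    have := hfa _ hy 1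
    rw [mul_one, ← hc] at this
    have h8 : f (c * x⁻¹) = x := by rw [this]; group
    rw [← h8, hff]
    rw [h8]

lemma InvSwap.add_lemma (h : PLine Γ) {t : Equiv.Perm (OnePoint F)} (ht : InvSwap Γ t)
    (hneg : (-1 : Fˣ) ∈ mult Γ) (f : Fˣ → Fˣ)
    (hf : ∀ x : Fˣ, t ((x : F) : OnePoint F) = ((f x : F) : OnePoint F))
    (hff : ∀ x, f (f x) = x) (hfa : ∀ a ∈ mult Γ, ∀ x, f (a * x) = a⁻¹ * f x)
    (b y w : Fˣ) (hyb : y * b⁻¹ ∈ mult Γ) (hw : (w : F) = b + y) : w * f w = b * f b := by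
  have hfneg : ∀ x : Fˣ, f (-x) = - f x := by
    intro x
    have := hfa (-1) hneg x
    simpa using this
  have htneg : ∀ x : Fˣ, t ((-(x : F) : F) : OnePoint F) = ((-(f x : F) : F) : OnePoint F) := by
    intro x
    have h1 := hf (-x)
    rw [hfneg] at h1
    simpa using h1
  set β := t * aff 1 (-(f b : F)) * t * aff 1 (b : F) * t with hβ
  have hβmem : β ∈ Γ :=
    Γ.mul_mem (Γ.mul_mem (Γ.mul_mem (Γ.mul_mem ht.mem (h.translation _)) ht.mem) (h.translation _)) ht.mem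
  have e1 : β ∞ = ∞ := by
    simp only [hβ, Equiv.Perm.mul_apply, ht.inf, aff_coe, Units.val_one, one_mul, mul_zero, zero_add, hf]
    rw [add_neg_cancel, ht.zero]
  obtain ⟨a, d, ha, hβa⟩ := h.affine hβmem e1
  have e2 : β ((0 : F) : OnePoint F) = ((-(b : F) : F) : OnePoint F) := by
    simp only [hβ, Equiv.Perm.mul_apply, ht.zero, aff_infty, ht.inf, aff_coe, Units.val_one, one_mul,
      mul_zero, zero_add]
    rw [htneg, hff]
  have hd : d = -(b : F) := by
    rw [hβa, aff_coe, OnePoint.coe_eq_coe] at e2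
    simpa using e2
  have e3 : β ((-(f b : F) : F) : OnePoint F) = ((0 : F) : OnePoint F) := by
    simp only [hβ, Equiv.Perm.mul_apply]
    rw [htneg, hff]
    simp only [aff_coe, Units.val_one, one_mul]
    rw [neg_add_cancel, ht.zero, aff_infty, ht.inf]
  have hafb : (a : F) * (f b : F) = -(b : F) := by
    rw [hβa, aff_coe, OnePoint.coe_eq_coe, hd] at e3
    linear_combination -e3
  have e4 : β ((f y : F) : OnePoint F) = t (((f w : F) - (f b : F) : F) : OnePoint F) := by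
    simp only [hβ, Equiv.Perm.mul_apply]
    rw [hf, hff]
    simp only [aff_coe, Units.val_one, one_mul]
    rw [add_comm (y : F) (b : F), ← hw, hf]
    simp only [aff_coe, Units.val_one, one_mul]
    rw [sub_eq_add_neg]
  -- the value `v`
  have hfy : f y = b * y⁻¹ * f b := by
    have h1 := hfa _ hyb b
    have h2 : y * b⁻¹ * b = y := by group
    rw [h2] at h1
    rw [h1]; simp
  have hsM : -1 * (b * y⁻¹) ∈ mult Γ := by
    apply (mult Γ).mul_mem hneg
    have : b * y⁻¹ = (y * b⁻¹)⁻¹ := by simp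
    rw [this]
    exact (mult Γ).inv_mem hyb
  have hv : (a : F) * (f y : F) + d = ((-1 * (b * y⁻¹) * w : Fˣ) : F) := by
    rw [hfy, hd]
    simp only [Units.val_mul, Units.val_neg, Units.val_one, Units.val_inv_eq_inv_val, hw]
    have hy0 : (y : F) ≠ 0 := y.ne_zero
    have : (a : F) * ((b : F) * (y : F)⁻¹ * (f b : F)) = (b : F) * (y : F)⁻¹ * ((a : F) * (f b : F)) := by ring
    rw [this, hafb]
    field_simp
    ring
  rw [hβa, aff_coe, hv] at e4
  have e5 := congrArg t e4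
  rw [ht.apply_apply, hf, hfa _ hsM, OnePoint.coe_eq_coe] at e5
  -- e5 : ((-1 * (b * y⁻¹))⁻¹ * f w) = f w - f b
  apply Units.ext
  simp only [Units.val_mul, Units.val_neg, Units.val_one, Units.val_inv_eq_inv_val, mul_inv_rev, inv_inv,
    inv_neg, inv_one] at e5 ⊢
  have hb0 : (b : F) ≠ 0 := b.ne_zero
  rw [hw]
  field_simp at e5
  linear_combination -e5

lemma InvSwap.eq_invc_of_neg_one_mem (h : PLine Γ) {t : Equiv.Perm (OnePoint F)} (ht : InvSwap Γ t)
    (hidx : (mult Γ).index = 2) (hneg : (-1 : Fˣ) ∈ mult Γ) : ∃ c : Fˣ, t = invc c := by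
  obtain ⟨f, hf, hff, hfa⟩ := ht.exists_f
  have key : ∀ n : ℕ, ∀ x : Fˣ, (x : F) = (n : F) → x * f x = f 1 := by
    intro n
    induction n with
    | zero =>
      intro x hx
      exfalso
      apply x.ne_zero
      simpa using hx
    | succ n ih =>
      intro x hx
      by_cases hn : (n : F) = 0
      · have : x = 1 := by
          apply Units.ext
          rw [hx]; push_cast; rw [hn]; simp
        rw [this, one_mul]
      · set y := Units.mk0 (n : F) hn with hy
        have ihy := ih y rfl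
        by_cases hyM : y ∈ mult Γ
        · have := ht.add_lemma h hneg f hf hff hfa 1 y x (by simpa using hyM)
            (by rw [hx]; push_cast; simp [hy]; ring)
          rw [this, one_mul]
        · by_cases hxM : x ∈ mult Γ
          · have := hfa x hxM 1
            rw [mul_one] at this
            rw [this]; group
          · have hq : x * y⁻¹ ∈ mult Γ := by
              rw [Subgroup.mul_mem_iff_of_index_two hidx, inv_mem_iff]
              exact ⟨fun h => absurd h hxM, fun h => absurd h hyM⟩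
            have := hfa _ hq y
            have h2 : x * y⁻¹ * y = x := by group
            rw [h2] at this
            rw [this, ← ihy]
            simp only [mul_inv_rev, inv_inv]
            rw [mul_comm y x⁻¹, ← mul_assoc, ← mul_assoc, mul_inv_cancel, one_mul]
  refine ⟨f 1, ht.eq_invc f hf (f 1) ?_⟩
  intro x
  obtain ⟨n, hn⟩ := h.cast (x : F)
  rw [← key n x hn.symm]
  rw [mul_comm x, mul_assoc, mul_inv_cancel, mul_one]

lemma neg_one_mem_of_even (M : Subgroup Fˣ) (heven : Even (Nat.card M)) : (-1 : Fˣ) ∈ M := by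
  have : Fact (Nat.Prime 2) := ⟨Nat.prime_two⟩
  obtain ⟨x, hx⟩ := exists_prime_orderOf_dvd_card' (G := ↥M) 2 heven.two_dvd
  have h1 : x ^ 2 = 1 := by rw [← hx]; exact pow_orderOf_eq_one x
  have h2 : x ≠ 1 := by
    intro h
    rw [h, orderOf_one] at hx
    omega
  have h3 : ((x : Fˣ) : F) * ((x : Fˣ) : F) = 1 := by
    have := congrArg (fun z : ↥M => ((z : Fˣ) : F)) h1
    simpa [sq] using this
  rcases mul_self_eq_one_iff.mp h3 with h4 | h4
  · exfalso
    apply h2
    apply Subtype.ext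
    apply Units.ext
    simpa using h4
  · have : (x : Fˣ) = -1 := by
      apply Units.ext
      simpa using h4
    rw [← this]
    exact x.2

lemma PLine.invol_conj (h : PLine Γ) {s : Equiv.Perm (OnePoint F)} (hs : s ∈ Γ) (hsq : s * s = 1)
    (hne : s ≠ 1) {y1 y2 : OnePoint F} (f1 : s y1 = y1) (f2 : s y2 = y2)
    {k : Equiv.Perm (OnePoint F)} (hk : k ∈ Γ) (k1 : k y1 = ∞) (k2 : k y2 = ((0 : F) : OnePoint F)) :
    k * s * k⁻¹ = aff (-1) 0 := by
  have e1 : k⁻¹ ∞ = y1 := by rw [← k1]; simp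
  have e2 : k⁻¹ ((0 : F) : OnePoint F) = y2 := by rw [← k2]; simp
  obtain ⟨a, ha, hsa⟩ := h.fix_both (Γ.mul_mem (Γ.mul_mem hk hs) (Γ.inv_mem hk))
    (by simp only [Equiv.Perm.mul_apply, e1, f1, k1]) (by simp only [Equiv.Perm.mul_apply, e2, f2, k2])
  have hss : (k * s * k⁻¹) * (k * s * k⁻¹) = 1 := by
    have : (k * s * k⁻¹) * (k * s * k⁻¹) = k * (s * s) * k⁻¹ := by group
    rw [this, hsq]; group
  rw [hsa, aff_mul, ← aff_one] at hss
  obtain ⟨h1, -⟩ := aff_injective hss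
  have h3 : (a : F) * (a : F) = 1 := by
    have := congrArg (fun z : Fˣ => (z : F)) h1
    simpa using this
  rcases mul_self_eq_one_iff.mp h3 with h4 | h4
  · exfalso
    apply hne
    have ha1 : a = 1 := Units.ext (by simpa using h4)
    rw [ha1, aff_one] at hsa
    have : s = k⁻¹ * (k * s * k⁻¹) * k := by group
    rw [this, hsa]; group
  · have ha1 : a = -1 := Units.ext (by simpa using h4)
    rw [hsa, ha1]

lemma PLine.invol_unique (h : PLine Γ) {s s' : Equiv.Perm (OnePoint F)} (hs : s ∈ Γ) (hs' : s' ∈ Γ)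
    (hsq : s * s = 1) (hsq' : s' * s' = 1) (hne : s ≠ 1) (hne' : s' ≠ 1) {y1 y2 : OnePoint F}
    (h12 : y1 ≠ y2) (f1 : s y1 = y1) (f2 : s y2 = y2) (f1' : s' y1 = y1) (f2' : s' y2 = y2) :
    s = s' := by
  obtain ⟨k, hk, k1, k2⟩ := h.two_trans h12
  have e1 := h.invol_conj hs hsq hne f1 f2 hk k1 k2
  have e2 := h.invol_conj hs' hsq' hne' f1' f2' hk k1 k2
  have : s = k⁻¹ * (k * s * k⁻¹) * k := by group
  rw [this, e1, ← e2]; group

/-- for every `x ≠ 0` there is an involution in `Γ` fixing `x`, `-x` and interchanging `0`, `∞` -/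
lemma PLine.exists_invol (h : PLine Γ) (hneg : (-1 : Fˣ) ∈ mult Γ) (x : Fˣ) :
    ∃ s ∈ Γ, s * s = 1 ∧ s ((x : F) : OnePoint F) = ((x : F) : OnePoint F) ∧
      s ((-(x : F) : F) : OnePoint F) = ((-(x : F) : F) : OnePoint F) ∧
      s ∞ = ((0 : F) : OnePoint F) ∧ s ((0 : F) : OnePoint F) = ∞ := by
  have hxne : ((x : F) : OnePoint F) ≠ ((-(x : F) : F) : OnePoint F) := by
    intro hx
    rw [OnePoint.coe_eq_coe] at hx
    have h2 : (2 : F) * x = 0 := by linear_combination hx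
    rcases mul_eq_zero.mp h2 with h5 | h5
    · exact h.two_ne h5
    · exact x.ne_zero h5
  obtain ⟨k, hk, k1, k2⟩ := h.two_trans hxne
  have hz : aff (-1 : Fˣ) (0 : F) ∈ Γ := hneg
  have hzz : aff (-1 : Fˣ) (0 : F) * aff (-1 : Fˣ) (0 : F) = 1 := by
    rw [aff_mul, ← aff_one]; simp
  have hzinv : (aff (-1 : Fˣ) (0 : F))⁻¹ = aff (-1 : Fˣ) (0 : F) := by
    rw [inv_eq_iff_mul_eq_one, hzz]
  set s := k⁻¹ * aff (-1) 0 * k with hs
  have hsmem : s ∈ Γ := Γ.mul_mem (Γ.mul_mem (Γ.inv_mem hk) hz) hk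
  have e1 : k⁻¹ ∞ = ((x : F) : OnePoint F) := by rw [← k1]; simp
  have e2 : k⁻¹ ((0 : F) : OnePoint F) = ((-(x : F) : F) : OnePoint F) := by rw [← k2]; simp
  have hsq : s * s = 1 := by
    have : s * s = k⁻¹ * (aff (-1) 0 * aff (-1) 0) * k := by rw [hs]; group
    rw [this, hzz]; group
  have f1 : s ((x : F) : OnePoint F) = ((x : F) : OnePoint F) := by
    simp only [hs, Equiv.Perm.mul_apply, k1, aff_infty, e1]
  have f2 : s ((-(x : F) : F) : OnePoint F) = ((-(x : F) : F) : OnePoint F) := by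
    simp only [hs, Equiv.Perm.mul_apply, k2, aff_coe, mul_zero, add_zero, e2]
  have hne : s ≠ 1 := by
    intro h1
    have h2 : aff (-1 : Fˣ) (0 : F) = k * s * k⁻¹ := by rw [hs]; group
    rw [h1] at h2
    have h3 : aff (-1 : Fˣ) (0 : F) = aff 1 0 := by rw [h2, aff_one]; group
    have h4 := (aff_injective h3).1
    have h5 : (-1 : F) = 1 := by
      have := congrArg (fun z : Fˣ => (z : F)) h4
      simpa using this
    apply h.two_ne
    linear_combination -h5
  -- `s` commutes with `z`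
  have hcomm : aff (-1) 0 * s * (aff (-1) 0)⁻¹ = s := by
    apply h.invol_unique (Γ.mul_mem (Γ.mul_mem hz hsmem) (Γ.inv_mem hz)) hsmem ?_ hsq ?_ hne hxne ?_ ?_ f1 f2
    · have : aff (-1) 0 * s * (aff (-1) 0)⁻¹ * (aff (-1) 0 * s * (aff (-1) 0)⁻¹) =
          aff (-1) 0 * (s * s) * (aff (-1 : Fˣ) (0 : F))⁻¹ := by group
      rw [this, hsq]; group
    · intro h1
      apply hne
      have : s = (aff (-1) 0)⁻¹ * (aff (-1) 0 * s * (aff (-1) 0)⁻¹) * aff (-1 : Fˣ) (0 : F) := by group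
      rw [this, h1]; group
    · rw [hzinv]
      simp only [Equiv.Perm.mul_apply, aff_coe, add_zero, Units.val_neg, Units.val_one, neg_mul, one_mul, f2,
        neg_neg]
    · rw [hzinv]
      simp only [Equiv.Perm.mul_apply, aff_coe, add_zero, Units.val_neg, Units.val_one, neg_mul, one_mul, f1,
        neg_neg]
  have hcomm' : aff (-1) 0 * s = s * aff (-1) 0 := by
    have : aff (-1) 0 * s = (aff (-1) 0 * s * (aff (-1) 0)⁻¹) * aff (-1 : Fˣ) (0 : F) := by group
    rw [this, hcomm]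
  have h0 : s ((0 : F) : OnePoint F) = ∞ := by
    have h1 := congrArg (fun g : Equiv.Perm (OnePoint F) => g ((0 : F) : OnePoint F)) hcomm'
    simp only [Equiv.Perm.mul_apply, aff_coe, mul_zero, add_zero] at h1
    cases hw : s ((0 : F) : OnePoint F) with
    | infty => rfl
    | coe w =>
      exfalso
      rw [hw, aff_coe, OnePoint.coe_eq_coe] at h1
      have hw0 : w = 0 := by
        have h2 : (2 : F) * w = 0 := by
          simp only [Units.val_neg, Units.val_one] at h1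
          linear_combination -h1
        rcases mul_eq_zero.mp h2 with h5 | h5
        · exact absurd h5 h.two_ne
        · exact h5
      rw [hw0] at hw
      apply hne
      refine h.eq_one_of_fix3 hsmem hxne ?_ ?_ f1 f2 hw
      · intro h6
        rw [OnePoint.coe_eq_coe] at h6
        exact x.ne_zero h6
      · intro h6
        rw [OnePoint.coe_eq_coe] at h6
        exact x.ne_zero (neg_eq_zero.mp h6)
  refine ⟨s, hsmem, hsq, f1, f2, ?_, h0⟩
  rw [← h0]
  have := congrArg (fun g : Equiv.Perm (OnePoint F) => g ((0 : F) : OnePoint F)) hsq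
  simpa using this

/-- In the even case every element of `Γ` interchanging `0` and `∞` is an involution. -/
lemma PLine.exists_invSwap_of_neg_one_mem (h : PLine Γ) (hidx : (mult Γ).index = 2)
    (hneg : (-1 : Fˣ) ∈ mult Γ) : ∃ t, InvSwap Γ t := by
  classical
  obtain ⟨t, ht, t1, t2⟩ := h.exists_swap
  have hex : ∀ x : Fˣ, ∃ a : ↥(mult Γ), (t * aff (a : Fˣ) 0) * (t * aff (a : Fˣ) 0) = 1 ∧
      (t * aff (a : Fˣ) 0) ((x : F) : OnePoint F) = ((x : F) : OnePoint F) ∧
      (t * aff (a : Fˣ) 0) ((-(x : F) : F) : OnePoint F) = ((-(x : F) : F) : OnePoint F) := by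
    intro x
    obtain ⟨s, hs, hsq, f1, f2, s1, s2⟩ := h.exists_invol hneg x
    obtain ⟨a, ha, rfl⟩ := h.swap_eq ht hs t1 t2 s1 s2
    exact ⟨⟨a, ha⟩, hsq, f1, f2⟩
  choose κ hκ1 hκ2 hκ3 using hex
  have := Fintype.ofFinite ↥(mult Γ)
  have hfib : ∀ a ∈ (Finset.univ : Finset Fˣ).image κ,
      ((Finset.univ : Finset Fˣ).filter (fun x => κ x = a)).card ≤ 2 := by
    intro a ha
    obtain ⟨x, -, rfl⟩ := Finset.mem_image.mp ha
    have hsub : (Finset.univ : Finset Fˣ).filter (fun x' => κ x' = κ x) ⊆ {x, -x} := by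
      intro x' hx'
      rw [Finset.mem_filter] at hx'
      have hx'' := hκ2 x'
      rw [hx'.2] at hx''
      by_contra hnot
      rw [Finset.mem_insert, Finset.mem_singleton] at hnot
      push Not at hnot
      have hmem : t * aff (κ x : Fˣ) 0 ∈ Γ := Γ.mul_mem ht (κ x).2
      have hxne : ((x : F) : OnePoint F) ≠ ((-(x : F) : F) : OnePoint F) := by
        intro hx
        rw [OnePoint.coe_eq_coe] at hx
        have h2 : (2 : F) * x = 0 := by linear_combination hx
        rcases mul_eq_zero.mp h2 with h5 | h5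
        · exact h.two_ne h5
        · exact x.ne_zero h5
      have h1 := h.eq_one_of_fix3 hmem hxne (y3 := ((x' : F) : OnePoint F)) ?_ ?_ (hκ2 x) (hκ3 x) hx''
      · have h2 := congrArg (fun g : Equiv.Perm (OnePoint F) => g ∞) h1
        simp only [Equiv.Perm.mul_apply, aff_infty, t1, Equiv.Perm.one_apply] at h2
        exact OnePoint.coe_ne_infty _ h2
      · intro h6
        rw [OnePoint.coe_eq_coe] at h6
        exact hnot.1 (Units.ext h6.symm)
      · intro h6
        rw [OnePoint.coe_eq_coe] at h6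
        exact hnot.2 (Units.ext (by simpa using h6.symm))
    exact (Finset.card_le_card hsub).trans Finset.card_le_two
  have hcount := Finset.card_le_mul_card_image (Finset.univ : Finset Fˣ) 2 hfib
  have hM := (mult Γ).index_mul_card
  rw [hidx, Nat.card_eq_fintype_card, Nat.card_eq_fintype_card] at hM
  rw [Finset.card_univ, ← hM] at hcount
  have himg : (Finset.univ : Finset Fˣ).image κ = Finset.univ := by
    apply Finset.eq_univ_of_card
    have := Finset.card_le_univ ((Finset.univ : Finset Fˣ).image κ)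
    omega
  have hall : ∀ a ∈ mult Γ, (t * aff a 0) * (t * aff a 0) = 1 := by
    intro a ha
    have : (⟨a, ha⟩ : ↥(mult Γ)) ∈ (Finset.univ : Finset Fˣ).image κ := by rw [himg]; exact Finset.mem_univ _
    obtain ⟨x, -, hx⟩ := Finset.mem_image.mp this
    have := hκ1 x
    rw [hx] at this
    exact this
  have htt : t * t = 1 := by
    have := hall 1 (mult Γ).one_mem
    rwa [aff_one, mul_one] at this
  refine ⟨t, ht, htt, t1, ?_⟩
  intro a ha
  have h1 := hall a ha
  have h2 : t * aff a 0 = (t * aff a 0)⁻¹ := by rw [eq_comm, inv_eq_iff_mul_eq_one, h1]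
  have h3 : t⁻¹ = t := by rw [inv_eq_iff_mul_eq_one, htt]
  rw [h2, mul_inv_rev, h3, aff_inv]
  simp

omit [Fintype F] in
lemma mulHom_injective : Function.Injective (mulHom (F := F)) := by
  intro a b hab
  exact (aff_injective hab).1

/-- Burnside's transfer theorem: an element interchanging `0` and `∞` cannot centralize the
multiplications, when these form a Sylow subgroup of the simple group `Γ`. -/
lemma PLine.not_central_swap (h : PLine Γ) [IsSimpleGroup Γ] (ℓ e : ℕ) [Fact ℓ.Prime]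
    (hm : Nat.card (mult Γ) = ℓ ^ e) (he : e ≠ 0)
    (hndvd : ¬ ℓ ∣ (Fintype.card F + 1) * Fintype.card F) {t : Equiv.Perm (OnePoint F)} (ht : t ∈ Γ)
    (t1 : t ∞ = ((0 : F) : OnePoint F)) (t2 : t ((0 : F) : OnePoint F) = ∞)
    (hcomm : ∀ a ∈ mult Γ, t * aff a 0 = aff a 0 * t) : False := by
  have hℓ : ℓ.Prime := Fact.out
  have hle : (mult Γ).map mulHom ≤ Γ := by
    rintro _ ⟨a, ha, rfl⟩
    exact ha
  set Hs : Subgroup ↥Γ := ((mult Γ).map mulHom).subgroupOf Γ with hHs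
  have hHcard : Nat.card Hs = ℓ ^ e := by
    rw [hHs, card_subgroupOf_of_le hle, Subgroup.card_map_of_injective mulHom_injective, hm]
  have hG : Nat.card Γ = ℓ ^ e * ((Fintype.card F + 1) * Fintype.card F) := by
    rw [h.card, hm]; ring
  obtain ⟨Q, hQ⟩ := (IsPGroup.of_card hHcard).exists_le_sylow
  have hQcard : Nat.card ↥(Q : Subgroup ↥Γ) = ℓ ^ e := (sylow_card_index Q hG hndvd).1
  have hQH : Hs = (Q : Subgroup ↥Γ) := Subgroup.eq_of_le_of_card_ge hQ (by rw [hQcard, hHcard])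
  have hmemQ : ∀ x : ↥Γ, x ∈ (Q : Subgroup ↥Γ) ↔ ∃ a ∈ mult Γ, aff a 0 = (x : Equiv.Perm (OnePoint F)) := by
    intro x
    rw [← hQH, hHs, Subgroup.mem_subgroupOf, Subgroup.mem_map]
    rfl
  have hgt : 1 < ℓ ^ e := Nat.one_lt_pow he hℓ.one_lt
  have hq : 2 ≤ Fintype.card F := Fintype.one_lt_card
  apply not_normalizer_le_centralizer Q (by rw [hQcard]; omega) (by
    rw [hQcard, hG]
    intro h1
    have h2 : 1 < (Fintype.card F + 1) * Fintype.card F := by nlinarith
    have h3 : ℓ ^ e * 1 < ℓ ^ e * ((Fintype.card F + 1) * Fintype.card F) :=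
      Nat.mul_lt_mul_of_pos_left h2 (by omega)
    omega)
  -- a nontrivial multiplier
  obtain ⟨a₀, ha₀, ha₀1⟩ : ∃ a₀ ∈ mult Γ, a₀ ≠ 1 := by
    have hnt : Nontrivial ↥(mult Γ) := by
      rw [← Finite.one_lt_card_iff_nontrivial, hm]; exact hgt
    obtain ⟨x, hx⟩ := exists_ne (1 : ↥(mult Γ))
    exact ⟨x, x.2, fun h1 => hx (Subtype.ext h1)⟩
  have hfix : ∀ y : OnePoint F, aff a₀ 0 y = y → y = ∞ ∨ y = ((0 : F) : OnePoint F) := by
    intro y hy
    cases y with
    | infty => left; rfl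
    | coe w =>
      right
      rw [aff_coe, OnePoint.coe_eq_coe, add_zero] at hy
      by_contra hw
      rw [OnePoint.coe_eq_coe] at hw
      apply ha₀1
      apply Units.ext
      have := mul_right_cancel₀ hw (hy.trans (one_mul w).symm)
      simpa using this
  intro g hg
  have hg' : g⁻¹ ∈ Subgroup.normalizer ((Q : Subgroup ↥Γ) : Set ↥Γ) := Subgroup.inv_mem _ hg
  rw [Subgroup.mem_normalizer_iff] at hg'
  have h1 := (hg' ⟨aff a₀ 0, ha₀⟩).mp ((hmemQ _).mpr ⟨a₀, ha₀, rfl⟩)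
  obtain ⟨a', ha', hga⟩ := (hmemQ _).mp h1
  have hga' : aff a₀ 0 * (g : Equiv.Perm (OnePoint F)) = (g : Equiv.Perm (OnePoint F)) * aff a' 0 := by
    rw [hga]
    simp only [Subgroup.coe_mul, InvMemClass.coe_inv, inv_inv]
    group
  have hinf := hfix ((g : Equiv.Perm (OnePoint F)) ∞) (by
    have := congrArg (fun s : Equiv.Perm (OnePoint F) => s ∞) hga'
    simpa using this)
  have hzero := hfix ((g : Equiv.Perm (OnePoint F)) ((0 : F) : OnePoint F)) (by
    have := congrArg (fun s : Equiv.Perm (OnePoint F) => s ((0 : F) : OnePoint F)) hga'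
    simpa using this)
  have hne : (g : Equiv.Perm (OnePoint F)) ∞ ≠ (g : Equiv.Perm (OnePoint F)) ((0 : F) : OnePoint F) := by
    intro h2
    exact OnePoint.infty_ne_coe _ ((g : Equiv.Perm (OnePoint F)).injective h2)
  rw [Subgroup.mem_centralizer_iff]
  intro x hx
  obtain ⟨b, hb, hxb⟩ := (hmemQ x).mp hx
  apply Subtype.ext
  simp only [Subgroup.coe_mul, ← hxb]
  rcases hinf with hi | hi
  · have hz : (g : Equiv.Perm (OnePoint F)) ((0 : F) : OnePoint F) = ((0 : F) : OnePoint F) := by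
      rcases hzero with hz | hz
      · exact absurd (hi.trans hz.symm) hne
      · exact hz
    obtain ⟨c, hc, hgc⟩ := h.fix_both g.2 hi hz
    rw [hgc, aff_mul, aff_mul, mul_comm b c]
    simp
  · have hz : (g : Equiv.Perm (OnePoint F)) ((0 : F) : OnePoint F) = ∞ := by
      rcases hzero with hz | hz
      · exact hz
      · exact absurd (hi.trans hz.symm) hne
    obtain ⟨c, hc, hgc⟩ := h.swap_eq ht g.2 t1 t2 hi hz
    rw [hgc, ← mul_assoc, ← hcomm b hb, mul_assoc, mul_assoc, aff_mul, aff_mul, mul_comm b c]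
    simp

omit [Fintype F] in
lemma aff_zpow (a : Fˣ) (j : ℤ) : (aff a (0 : F)) ^ j = aff (a ^ j) 0 := by
  have := map_zpow (mulHom (F := F)) a j
  simpa using this.symm

omit [Fintype F] in
lemma aff_pow (a : Fˣ) (j : ℕ) : (aff a (0 : F)) ^ j = aff (a ^ j) 0 := by
  have := map_pow (mulHom (F := F)) a j
  simpa using this.symm

lemma PLine.exists_invSwap_of_odd (h : PLine Γ) [IsSimpleGroup Γ] (hodd : Odd (Nat.card (mult Γ)))
    (ℓ e : ℕ) [Fact ℓ.Prime] (hm : Nat.card (mult Γ) = ℓ ^ e) (he : e ≠ 0)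
    (hndvd : ¬ ℓ ∣ (Fintype.card F + 1) * Fintype.card F)
    (harith : ∀ k : ZMod (Nat.card (mult Γ)), k * k = 1 → k = 1 ∨ k = -1) : ∃ t, InvSwap Γ t := by
  obtain ⟨t₁, ht₁, t1, t2⟩ := h.exists_swap
  obtain ⟨a, ha, hta⟩ := h.fix_both (Γ.mul_mem ht₁ ht₁) (by simp only [Equiv.Perm.mul_apply, t1, t2])
    (by simp only [Equiv.Perm.mul_apply, t1, t2])
  obtain ⟨k, hk⟩ := hodd
  have hcardpow : ∀ b ∈ mult Γ, b ^ (Nat.card (mult Γ)) = 1 := by
    intro b hb
    have h3 : (⟨b, hb⟩ : ↥(mult Γ)) ^ (Nat.card (mult Γ)) = 1 := pow_card_eq_one'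
    exact congrArg Subtype.val h3
  -- the involution
  set t := t₁ ^ (2 * k + 1) with htdef
  have ht : t ∈ Γ := Γ.pow_mem ht₁ _
  have hteq : t = aff (a ^ k) 0 * t₁ := by
    rw [htdef, pow_succ, pow_mul, sq, hta, aff_pow]
  have htt : t * t = 1 := by
    rw [htdef, ← pow_add]
    have : 2 * k + 1 + (2 * k + 1) = 2 * (2 * k + 1) := by ring
    rw [this, pow_mul, sq, hta, aff_pow, ← hk, hcardpow a ha, aff_one]
  have tinf : t ∞ = ((0 : F) : OnePoint F) := by
    rw [hteq, Equiv.Perm.mul_apply, t1, aff_coe]; simp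
  have tzero : t ((0 : F) : OnePoint F) = ∞ := by
    rw [hteq, Equiv.Perm.mul_apply, t2, aff_infty]
  have htinv : t⁻¹ = t := by rw [inv_eq_iff_mul_eq_one, htt]
  -- a generator of the multipliers
  obtain ⟨g₀, hg₀⟩ := IsCyclic.exists_generator (α := ↥(mult Γ))
  set a₀ : Fˣ := (g₀ : Fˣ) with ha₀
  have hord : orderOf a₀ = Nat.card (mult Γ) := by
    rw [ha₀, Subgroup.orderOf_coe]
    exact orderOf_eq_card_of_forall_mem_zpowers hg₀
  have hgen : ∀ b ∈ mult Γ, ∃ j : ℤ, b = a₀ ^ j := by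
    intro b hb
    obtain ⟨j, hj⟩ := Subgroup.mem_zpowers_iff.mp (hg₀ ⟨b, hb⟩)
    refine ⟨j, ?_⟩
    have := congrArg Subtype.val hj
    simpa using this.symm
  obtain ⟨a₁, ha₁, hconj⟩ := h.fix_both (g := t * aff a₀ 0 * t⁻¹)
    (Γ.mul_mem (Γ.mul_mem ht g₀.2) (Γ.inv_mem ht))
    (by rw [htinv]; simp only [Equiv.Perm.mul_apply, tinf, aff_coe, mul_zero, add_zero, tzero])
    (by rw [htinv]; simp only [Equiv.Perm.mul_apply, tzero, aff_infty, tinf])
  have hconjz : ∀ j : ℤ, t * aff (a₀ ^ j) 0 * t⁻¹ = aff (a₁ ^ j) 0 := by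
    intro j
    rw [← aff_zpow, ← aff_zpow, ← hconj, conj_zpow]
  obtain ⟨n, hn⟩ := hgen a₁ ha₁
  have h2 : a₀ ^ (n * n) = a₀ := by
    have h3 := hconjz n
    rw [← hn, ← hconj] at h3
    have h4 : t * (t * aff a₀ 0 * t⁻¹) * t⁻¹ = aff a₀ 0 := by
      have : t * (t * aff a₀ 0 * t⁻¹) * t⁻¹ = (t * t) * aff a₀ 0 * (t * t)⁻¹ := by group
      rw [this, htt]; group
    rw [h4, hn, ← zpow_mul] at h3
    exact (aff_injective h3).1.symm
  have h3 : ((Nat.card (mult Γ) : ℕ) : ℤ) ∣ n * n - 1 := by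
    rw [← hord, orderOf_dvd_iff_zpow_eq_one, zpow_sub, h2, zpow_one, mul_inv_cancel]
  have h4 : ((n : ℤ) : ZMod (Nat.card (mult Γ))) * ((n : ℤ) : ZMod (Nat.card (mult Γ))) = 1 := by
    have := (ZMod.intCast_zmod_eq_zero_iff_dvd (n * n - 1) (Nat.card (mult Γ))).mpr h3
    push_cast at this
    exact sub_eq_zero.mp this
  rcases harith _ h4 with h5 | h5
  · -- `t` centralizes: contradiction
    exfalso
    have h6 : ((Nat.card (mult Γ) : ℕ) : ℤ) ∣ n - 1 := by
      rw [← ZMod.intCast_zmod_eq_zero_iff_dvd]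
      push_cast
      rw [h5]; simp
    have h7 : a₁ = a₀ := by
      rw [← hord, orderOf_dvd_iff_zpow_eq_one, zpow_sub, zpow_one, mul_inv_eq_one] at h6
      rw [hn, h6]
    apply h.not_central_swap ℓ e hm he hndvd ht tinf tzero
    intro b hb
    obtain ⟨j, rfl⟩ := hgen b hb
    have := hconjz j
    rw [h7] at this
    calc t * aff (a₀ ^ j) 0 = (t * aff (a₀ ^ j) 0 * t⁻¹) * t := by group
      _ = aff (a₀ ^ j) 0 * t := by rw [this]
  · have h6 : ((Nat.card (mult Γ) : ℕ) : ℤ) ∣ n + 1 := by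
      rw [← ZMod.intCast_zmod_eq_zero_iff_dvd]
      push_cast
      rw [h5]; simp
    have h7 : a₁ = a₀⁻¹ := by
      rw [← hord, orderOf_dvd_iff_zpow_eq_one, zpow_add, zpow_one, mul_eq_one_iff_eq_inv] at h6
      rw [hn, h6]
    refine ⟨t, ht, htt, tinf, ?_⟩
    intro b hb
    obtain ⟨j, rfl⟩ := hgen b hb
    have := hconjz j
    rw [h7, inv_zpow] at this
    calc t * aff (a₀ ^ j) 0 = (t * aff (a₀ ^ j) 0 * t⁻¹) * t := by group
      _ = aff (a₀ ^ j)⁻¹ 0 * t := by rw [this]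

/-- **Recognition theorem** (permutation form). -/
theorem PLine.exists_invc_mem (h : PLine Γ) [IsSimpleGroup Γ] (hidx : (mult Γ).index = 2)
    (hyp : Odd (Nat.card (mult Γ)) → ∃ (ℓ e : ℕ), ℓ.Prime ∧ Nat.card (mult Γ) = ℓ ^ e ∧ e ≠ 0 ∧
      (¬ ℓ ∣ (Fintype.card F + 1) * Fintype.card F) ∧
      ∀ k : ZMod (Nat.card (mult Γ)), k * k = 1 → k = 1 ∨ k = -1) :
    ∃ c : Fˣ, invc c ∈ Γ := by
  rcases Nat.even_or_odd (Nat.card (mult Γ)) with heven | hodd
  · have hneg := neg_one_mem_of_even _ heven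
    obtain ⟨t, ht⟩ := h.exists_invSwap_of_neg_one_mem hidx hneg
    obtain ⟨c, hc⟩ := ht.eq_invc_of_neg_one_mem h hidx hneg
    exact ⟨c, hc ▸ ht.mem⟩
  · obtain ⟨ℓ, e, hℓ, hm, he, hnd, har⟩ := hyp hodd
    have : Fact ℓ.Prime := ⟨hℓ⟩
    obtain ⟨t, ht⟩ := h.exists_invSwap_of_odd hodd ℓ e hm he hnd har
    obtain ⟨c, hc⟩ := ht.eq_invc_of_odd h hidx hodd
    exact ⟨c, hc ▸ ht.mem⟩

end Cfsg.Agent.Lib.Helper17
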