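import Mathlib
import Cfsg.Agent.Lib.Helper17.Basic
import Cfsg.Agent.Lib.Helper17.PSLAff
import Cfsg.Agent.Lib.Helper17.PSLPerm
import Cfsg.Agent.S1018

set_option autoImplicit false
set_option linter.unusedSectionVars false
set_option linter.style.haveILetI false
set_option linter.unusedVariables false

/-! A simple group of order `p (p^2-1) / 2` with `p + 1` Sylow `p`-subgroups is `PSL₂(p)`. -/

namespace Cfsg.Agent.Lib.Helper17

open OnePoint

/-- **Recognition theorem** for `PSL₂(p)`, `p = 2 m + 1` a prime. -/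
theorem psl2_recognition {G : Type*} [Group G] [Finite G] [IsSimpleGroup G]
    {F : Type*} [Field F] [Fintype F] (p m : ℕ) [Fact p.Prime] (hpm : p = 2 * m + 1) (hm0 : m ≠ 0)
    (hF : Fintype.card F = p) (hG : Nat.card G = p ^ 1 * (m * (p + 1)))
    (hnp : Nat.card (Sylow p G) = p + 1)
    (hyp : Odd m → ∃ (ℓ e : ℕ), ℓ.Prime ∧ m = ℓ ^ e ∧ e ≠ 0 ∧ (¬ ℓ ∣ (p + 1) * p) ∧
      ∀ k : ZMod m, k * k = 1 → k = 1 ∨ k = -1) :
    Nonempty (G ≃* Matrix.ProjectiveSpecialLinearGroup (Fin 2) F) := by
  classical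
  have hp : p.Prime := Fact.out
  have hchar : CharP F p :=
    charP_of_injective_ringHom (ZMod.ringEquivOfPrime F hp hF).injective p
  have hndvd : ¬ p ∣ m * (p + 1) := by
    intro h
    rcases (Nat.Prime.dvd_mul hp).mp h with h1 | h1
    · have := Nat.le_of_dvd (Nat.pos_of_ne_zero hm0) h1
      omega
    · have h2 : p ∣ 1 := (Nat.dvd_add_right (dvd_refl p)).mp h1
      exact hp.one_lt.ne' (Nat.dvd_one.mp h2)
  obtain ⟨P⟩ : Nonempty (Sylow p G) := inferInstance
  have hP : Nat.card ↥(P : Subgroup G) = p := by simpa using (sylow_card_index P hG hndvd).1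
  set N := Subgroup.normalizer ((P : Subgroup G) : Set G) with hN
  have hidx : N.index = p + 1 := by rw [← hnp]; exact (P.card_eq_index_normalizer).symm
  -- a generator of `P`
  obtain ⟨u', hu'⟩ := exists_prime_orderOf_dvd_card' (G := ↥(P : Subgroup G)) p (by rw [hP])
  set u : G := (u' : G) with hu
  have huo : orderOf u = p := (Subgroup.orderOf_coe u').trans hu'
  have huP : u ∈ (P : Subgroup G) := u'.2
  have hzP : Subgroup.zpowers u = (P : Subgroup G) := Cfsg.Agent.S1018.zpowers_eq_sylow P hP u huo huP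
  set ωinf : G ⧸ N := ((1 : G) : G ⧸ N) with hωinf
  have hcardΩ : Nat.card (G ⧸ N) = p + 1 := by rw [← hidx]; rfl
  have hfixN : ∀ g : G, g • ωinf = ωinf ↔ g ∈ N := by
    intro g
    rw [← MulAction.mem_stabilizer_iff, hωinf, MulAction.stabilizer_quotient]
  -- elements of order p fix only ωinf
  have hfixu : ∀ y : G, y ∈ (P : Subgroup G) → y ≠ 1 → ∀ ω : G ⧸ N, y • ω = ω → ω = ωinf := by
    intro y hy hy1 ω hω
    have hyo : orderOf y = p := by
      have h2 : orderOf y ∣ p := by
        have := orderOf_dvd_natCard (⟨y, hy⟩ : ↥(P : Subgroup G))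
        rw [hP] at this
        rwa [← Subgroup.orderOf_coe] at this
      rcases (Nat.dvd_prime hp).mp h2 with h3 | h3
      · rw [orderOf_eq_one_iff] at h3; exact absurd h3 hy1
      · exact h3
    have h1 := (Cfsg.Agent.S1018.result p P hP).1 y hyo
    rw [Nat.card_eq_one_iff_unique] at h1
    have h2 : (⟨ω, hω⟩ : MulAction.fixedBy (G ⧸ N) y) =
        ⟨ωinf, (hfixN y).mpr (Subgroup.le_normalizer hy)⟩ := h1.1.elim _ _
    exact congrArg Subtype.val h2
  -- another point
  obtain ⟨ω0, hω0⟩ : ∃ ω0 : G ⧸ N, ω0 ≠ ωinf := by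
    have hnt : Nontrivial (G ⧸ N) := by
      rw [← Finite.one_lt_card_iff_nontrivial, hcardΩ]; omega
    exact exists_ne ωinf
  -- the labelling
  choose ν hν using natCast_surj (F := F) hp hF
  let lam : OnePoint F → G ⧸ N := fun x => match x with
    | ∞ => ωinf
    | OnePoint.some x => u ^ (ν x) • ω0
  have lam_inf : lam ∞ = ωinf := rfl
  have lam_coe : ∀ x : F, lam (x : OnePoint F) = u ^ (ν x) • ω0 := fun x => rfl
  have hpow_ne : ∀ n : ℕ, u ^ n • ω0 ≠ ωinf := by
    intro n hn
    apply hω0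
    have h1 : (u ^ n) • ωinf = ωinf := (hfixN _).mpr (Subgroup.le_normalizer ((P : Subgroup G).pow_mem huP n))
    rw [← h1] at hn
    exact MulAction.injective (u ^ n) hn
  have hpow_eq : ∀ a b : ℕ, u ^ a • ω0 = u ^ b • ω0 → (a : F) = (b : F) := by
    intro a b hab
    have h1 : ((u ^ b)⁻¹ * u ^ a) • ω0 = ω0 := by
      rw [mul_smul, hab, inv_smul_smul]
    have h2 : (u ^ b)⁻¹ * u ^ a = 1 := by
      by_contra hne
      exact hω0 (hfixu _ ((P : Subgroup G).mul_mem ((P : Subgroup G).inv_mem ((P : Subgroup G).pow_mem huP b))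
        ((P : Subgroup G).pow_mem huP a)) hne ω0 h1)
    have h3 : u ^ a = u ^ b := by
      rw [inv_mul_eq_one] at h2
      exact h2.symm
    rw [pow_eq_pow_iff_modEq, huo] at h3
    exact (CharP.natCast_eq_natCast F p).mpr h3
  have lam_inj : Function.Injective lam := by
    intro x y hxy
    cases x with
    | infty =>
      cases y with
      | infty => rfl
      | coe y =>
        rw [lam_inf, lam_coe] at hxy
        exact absurd hxy.symm (hpow_ne _)
    | coe x =>
      cases y with
      | infty =>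
        rw [lam_inf, lam_coe] at hxy
        exact absurd hxy (hpow_ne _)
      | coe y =>
        rw [lam_coe, lam_coe] at hxy
        have := hpow_eq _ _ hxy
        rw [hν, hν] at this
        rw [this]
  have hcardX : Nat.card (OnePoint F) = p + 1 := by
    rw [Nat.card_eq_fintype_card, ← hF]
    exact Fintype.card_option
  have lam_bij : Function.Bijective lam := by
    have := Fintype.ofFinite (G ⧸ N)
    rw [Fintype.bijective_iff_injective_and_card]
    refine ⟨lam_inj, ?_⟩
    rw [← Nat.card_eq_fintype_card, ← Nat.card_eq_fintype_card, hcardX, hcardΩ]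
  let Lam : OnePoint F ≃ G ⧸ N := Equiv.ofBijective lam lam_bij
  have Lam_apply : ∀ x, Lam x = lam x := fun x => rfl
  let ρ : G →* Equiv.Perm (OnePoint F) :=
    (Lam.symm.permCongrHom).toMonoidHom.comp (MulAction.toPermHom G (G ⧸ N))
  have ρ_apply : ∀ (g : G) (x : OnePoint F), ρ g x = Lam.symm (g • Lam x) := fun g x => rfl
  have hNtop : N ≠ ⊤ := by
    intro h
    rw [h, Subgroup.index_top] at hidx
    omega
  have ρ_inj : Function.Injective ρ := by
    intro a b hab
    apply toPermHom_injective N hNtop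
    exact (Lam.symm.permCongrHom).injective hab
  have ρ_u : ρ u = aff 1 1 := by
    ext x
    rw [ρ_apply]
    cases x with
    | infty =>
      rw [Lam_apply, lam_inf, (hfixN u).mpr (Subgroup.le_normalizer huP), aff_infty, Equiv.symm_apply_eq]
      rfl
    | coe x =>
      rw [Lam_apply, lam_coe, aff_coe, Equiv.symm_apply_eq, Lam_apply, lam_coe, ← mul_smul, ← pow_succ']
      congr 1
      rw [pow_eq_pow_iff_modEq, huo, ← CharP.natCast_eq_natCast F p]
      push_cast
      rw [hν, hν]
      simp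
  set Γ : Subgroup (Equiv.Perm (OnePoint F)) := ρ.range with hΓ
  have hline : PLine Γ := by
    refine ⟨⟨u, ρ_u⟩, ?_, ?_, natCast_surj hp hF, ?_⟩
    · rintro _ ⟨g, rfl⟩ hg
      rw [ρ_apply, Equiv.symm_apply_eq] at hg
      have hgN : g ∈ N := (hfixN g).mp hg
      have h1 : g * u * g⁻¹ ∈ (P : Subgroup G) := (Subgroup.mem_normalizer_iff.mp hgN u).mp huP
      rw [← hzP, ← mem_powers_iff_mem_zpowers] at h1
      obtain ⟨k, hk⟩ := h1
      refine ⟨k, ?_⟩
      have hk' : u ^ k = g * u * g⁻¹ := hk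
      rw [← ρ_u, ← map_inv, ← map_mul, ← map_mul, ← map_pow, hk']
    · intro x
      obtain ⟨g, hg⟩ := QuotientGroup.mk_surjective (Lam x)
      refine ⟨ρ g, ⟨g, rfl⟩, ?_⟩
      rw [ρ_apply, Equiv.symm_apply_eq, ← hg]
      show g • ((1 : G) : G ⧸ N) = (g : G ⧸ N)
      rw [MulAction.Quotient.smul_mk, smul_eq_mul, mul_one]
    · intro h2
      have h3 : ((2 : ℕ) : F) = 0 := by exact_mod_cast h2
      rw [CharP.cast_eq_zero_iff F p] at h3
      have := Nat.le_of_dvd (by norm_num) h3
      omega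
  -- `Γ` is simple of the same order as `G`
  let eΓ : G ≃* Γ := MonoidHom.ofInjective ρ_inj
  have hsimple : IsSimpleGroup Γ := (eΓ.isSimpleGroup_congr).mp inferInstance
  have hcardΓ : Nat.card Γ = Nat.card G := (Nat.card_congr eΓ.toEquiv).symm
  have hcard := hline.card
  rw [hcardΓ, hG, hF] at hcard
  have hM : Nat.card (mult Γ) = m := by
    have h1 : p ^ 1 * (m * (p + 1)) = (p * (p + 1)) * m := by ring
    have h2 : (p + 1) * (Nat.card (mult Γ) * p) = (p * (p + 1)) * Nat.card (mult Γ) := by ring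
    rw [h1, h2] at hcard
    exact (Nat.eq_of_mul_eq_mul_left (Nat.mul_pos hp.pos (Nat.succ_pos p)) hcard).symm
  have hindex : (mult Γ).index = 2 := by
    have h1 := (mult Γ).index_mul_card
    rw [hM, Nat.card_eq_fintype_card, Fintype.card_units, hF] at h1
    have h2 : (mult Γ).index * m = 2 * m := by omega
    exact Nat.eq_of_mul_eq_mul_right (Nat.pos_of_ne_zero hm0) h2
  obtain ⟨c, hc⟩ := hline.exists_invc_mem hindex (by
    rw [hM, hF]
    exact hyp)
  have hle : (slPerm (F := F)).range ≤ Γ := range_slPerm_le Γ hline.translation c hc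
  have hcardPSL := Cfsg.Agent.Lib.Helper5.card_PSL2 (F := F)
  rw [hF] at hcardPSL
  have hgcd : Nat.gcd (p - 1) 2 = 2 := by
    have : p - 1 = 2 * m := by omega
    rw [this]; simp
  rw [hgcd] at hcardPSL
  have hcardR : Nat.card (slPerm (F := F)).range = Nat.card Γ := by
    rw [← Nat.card_congr (pslEquivRange (F := F)).toEquiv, hcardΓ, hG]
    have h3 : p * (p ^ 2 - 1) = 2 * (p ^ 1 * (m * (p + 1))) := by
      have : p ^ 2 - 1 = (2 * m) * (p + 1) := by
        rw [hpm]
        have : (2 * m + 1) ^ 2 = 2 * m * (2 * m + 1 + 1) + 1 := by ring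
        rw [this]; simp
      rw [this]; ring
    rw [h3] at hcardPSL
    omega
  have heq : (slPerm (F := F)).range = Γ := Subgroup.eq_of_le_of_card_ge hle (by rw [hcardR])
  exact ⟨eΓ.trans ((MulEquiv.subgroupCongr heq.symm).trans (pslEquivRange (F := F)).symm)⟩

end Cfsg.Agent.Lib.Helper17
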