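import Mathlib
import Cfsg.Agent.Lib.Helper17.Basic
import Cfsg.Agent.S1018

set_option autoImplicit false
set_option linter.unusedSectionVars false
set_option linter.style.haveILetI false

namespace Cfsg.Agent.Lib.Helper17

open Subgroup

lemma four_dvd_of_involution {X : Type*} [Fintype X] [DecidableEq X] (σ : Equiv.Perm X)
    (h2 : σ ^ 2 = 1) (hs : Equiv.Perm.sign σ = 1) :
    4 ∣ Fintype.card X - Fintype.card (Function.fixedPoints σ) := by
  by_cases h1 : σ = 1
  · subst h1
    have : Fintype.card (Function.fixedPoints (1 : Equiv.Perm X)) = Fintype.card X := by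
      rw [Equiv.Perm.card_fixedPoints]; simp
    rw [this]; simp
  · have ho : orderOf σ = 2 := orderOf_eq_prime h2 h1
    obtain ⟨n, hn⟩ := Equiv.Perm.cycleType_prime_order (σ := σ) (by rw [ho]; exact Nat.prime_two)
    rw [ho] at hn
    have hsum : σ.cycleType.sum = 2 * (n + 1) := by
      rw [hn, Multiset.sum_replicate, smul_eq_mul, mul_comm]
    have hle := σ.sum_cycleType_le
    rw [Equiv.Perm.card_fixedPoints, hsum]
    rw [hsum] at hle
    have hsign := Equiv.Perm.sign_of_cycleType σ
    rw [hs, hsum, hn, Multiset.card_replicate] at hsign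
    have hev : Even (2 * (n + 1) + (n + 1)) := by
      rw [← neg_one_pow_eq_one_iff_even (R := ℤˣ) (by decide)]
      exact hsign.symm
    have hev' : Even (n + 1) := by
      rcases hev with ⟨k, hk⟩
      exact ⟨k - (n + 1), by omega⟩
    obtain ⟨k, hk⟩ := hev'
    exact ⟨k, by omega⟩

variable {G : Type*} [Group G] [Finite G]

/-- In a nonabelian simple group an involution acts as an even permutation on the cosets of any
subgroup: the number of moved cosets is divisible by `4`. -/
lemma four_dvd_index_sub_fixed [IsSimpleGroup G] (hG : ¬ IsMulCommutative G) (H : Subgroup G)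
    (x : G) (hx : x ^ 2 = 1) :
    4 ∣ H.index - Nat.card (MulAction.fixedBy (G ⧸ H) x) := by
  classical
  have := Fintype.ofFinite (G ⧸ H)
  let φ := MulAction.toPermHom G (G ⧸ H)
  have h1 : (φ x) ^ 2 = 1 := by rw [← map_pow, hx, map_one]
  have h2 : Equiv.Perm.sign (φ x) = 1 := hom_comm_trivial hG (Equiv.Perm.sign.comp φ) x
  have h3 := four_dvd_of_involution (φ x) h1 h2
  rw [← Nat.card_eq_fintype_card, ← Nat.card_eq_fintype_card, ← Subgroup.index_eq_card] at h3
  exact h3

/-- The number `k` of orbits of a Sylow subgroup `P` of prime order on the cosets of its normalizer: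
`n_p = 1 + (k - 1) p`. -/
lemma card_orbits_sylow {p : ℕ} [Fact p.Prime] (P : Sylow p G) (hP : Nat.card ↥(P : Subgroup G) = p) :
    Nat.card (Sylow p G) =
      1 + (Nat.card (MulAction.orbitRel.Quotient ↥(P : Subgroup G)
        (G ⧸ normalizer ((P : Subgroup G) : Set G))) - 1) * p := by
  classical
  have hp : p.Prime := Fact.out
  set N := normalizer ((P : Subgroup G) : Set G) with hN
  set Ω := MulAction.orbitRel.Quotient ↥(P : Subgroup G) (G ⧸ N) with hΩ
  have := Fintype.ofFinite Ω
  have hX : Nat.card (Sylow p G) = Nat.card (G ⧸ N) := P.card_eq_card_quotient_normalizer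
  rw [hX, Nat.card_congr (MulAction.selfEquivSigmaOrbits ↥(P : Subgroup G) (G ⧸ N)), Nat.card_sigma]
  let q₀ : G ⧸ N := ((1 : G) : G ⧸ N)
  let ω₀ : Ω := Quotient.mk'' q₀
  have hfix0 : ∀ u : ↥(P : Subgroup G), u • q₀ = q₀ := by
    intro u
    show (u : G) • ((1 : G) : G ⧸ N) = ((1 : G) : G ⧸ N)
    rw [MulAction.Quotient.smul_mk, smul_eq_mul, mul_one, QuotientGroup.eq, mul_one]
    exact N.inv_mem (le_normalizer u.2)
  have horb : MulAction.orbit ↥(P : Subgroup G) q₀ = {q₀} := by
    ext y
    constructor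
    · rintro ⟨h, rfl⟩
      exact hfix0 h
    · rintro rfl
      exact MulAction.mem_orbit_self _
  have hout0 : ω₀.out = q₀ := by
    have h1 : (Quotient.mk'' ω₀.out : Ω) = Quotient.mk'' q₀ := Quotient.out_eq' ω₀
    have h2 : ω₀.out ∈ MulAction.orbit ↥(P : Subgroup G) q₀ := by
      rw [← MulAction.orbitRel_apply]
      exact Quotient.exact' h1
    rw [horb] at h2
    exact h2
  -- a generator of P
  obtain ⟨u, hu⟩ := exists_prime_orderOf_dvd_card' (G := ↥(P : Subgroup G)) p (by rw [hP])
  have hu' : orderOf (u : G) = p := (Subgroup.orderOf_coe u).trans hu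
  obtain ⟨g, -, hg⟩ := Cfsg.Agent.S1018.fixedBy_eq_singleton P hP u hu'
  have hq0 : q₀ ∈ MulAction.fixedBy (G ⧸ N) (u : G) := hfix0 u
  have hsize : ∀ ω : Ω, ω ≠ ω₀ → Nat.card (MulAction.orbit ↥(P : Subgroup G) ω.out) = p := by
    intro ω hω
    have h1 : Nat.card (MulAction.orbit ↥(P : Subgroup G) ω.out) ∣ p := by
      rw [Nat.card_coe_set_eq, ← MulAction.index_stabilizer]
      have := Subgroup.index_dvd_card (MulAction.stabilizer ↥(P : Subgroup G) ω.out)
      rwa [hP] at this
    rcases (Nat.dvd_prime hp).mp h1 with h2 | h2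
    · exfalso
      apply hω
      have h3 : u • ω.out = ω.out := by
        have hsub : Subsingleton (MulAction.orbit ↥(P : Subgroup G) ω.out) :=
          (Nat.card_eq_one_iff_unique.mp h2).1
        have := Subsingleton.elim
          (⟨u • ω.out, MulAction.mem_orbit _ _⟩ : MulAction.orbit ↥(P : Subgroup G) ω.out)
          ⟨ω.out, MulAction.mem_orbit_self _⟩
        exact congrArg Subtype.val this
      have h4 : ω.out ∈ MulAction.fixedBy (G ⧸ N) (u : G) := h3
      rw [hg, Set.mem_singleton_iff] at h4 hq0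
      rw [← Quotient.out_eq' ω, h4, ← hq0]
    · exact h2
  rw [← Finset.add_sum_erase Finset.univ _ (Finset.mem_univ ω₀)]
  have h1 : Nat.card (MulAction.orbit ↥(P : Subgroup G) ω₀.out) = 1 := by
    rw [hout0, horb]; simp
  rw [h1, Finset.sum_congr rfl (fun ω hω => hsize ω (Finset.ne_of_mem_erase hω)), Finset.sum_const,
    Finset.card_erase_of_mem (Finset.mem_univ _), Finset.card_univ, smul_eq_mul,
    Nat.card_eq_fintype_card]

end Cfsg.Agent.Lib.Helper17
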