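import Cfsg.Agent.Lib.Helper17.ChevCentTab

set_option autoImplicit false

/-! Table checks for Steinberg's presentation of the tabulated Chevalley groups. -/

namespace Cfsg.Agent.Lib.Helper17

open Cfsg.Lie Matrix Cfsg.Agent.Lib.Helper18

/-- Table check: the coroot coefficients of every root are coprime in a strong sense. -/
def ccOK (D : ChevalleyDatum) : Bool :=
  (List.range D.nroots).all fun r => (List.range D.rank).any fun i => (List.range D.rank).any fun j =>
    decide (cc D r i = 1) || decide (cc D r i = -1) || decide (cc D r i - cc D r j = 1)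

/-- `s` has a coefficient of sign `ε` outside `p_i` -/
def gdB (D : ChevalleyDatum) (ε : ℤ) (i s : ℕ) : Bool :=
  (List.range D.rank).any fun q => decide (q ≠ i) && decide (0 < ε * cc D s q)

/-- Table check: a root other than `± p_i` involves another fundamental root. -/
def gdOK (D : ChevalleyDatum) : Bool :=
  (List.range D.nroots).all fun s => (List.range D.rank).all fun i =>
    decide (s = D.simple i) || decide (s = D.neg (D.simple i)) || gdB D 1 i s || gdB D (-1) i s

/-- the check for a pair of roots `a`, `b` whose commutator formula contains `ε p_i` -/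
def witB (D : ChevalleyDatum) (ε : ℤ) (i a b : ℕ) : Bool :=
  decide (a < D.nroots) && decide (b < D.nroots) && decide (b ≠ a) && decide (b ≠ D.neg a) &&
  (gdB D 1 i a || gdB D (-1) i a) && (gdB D 1 i b || gdB D (-1) i b) &&
  decide (D.reflectRoot i b ≠ D.reflectRoot i a) && decide (D.reflectRoot i b ≠ D.neg (D.reflectRoot i a)) &&
  ((D.commTerms a b).takeWhile fun c => decide (c.1 ≠ if ε = 1 then D.simple i else D.neg (D.simple i))).all
    (fun c => gdB D (-ε) i c.1) &&
  (match (D.commTerms a b).dropWhile
      fun c => decide (c.1 ≠ if ε = 1 then D.simple i else D.neg (D.simple i)) with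
   | c₀ :: L₂ => decide (c₀.1 = if ε = 1 then D.simple i else D.neg (D.simple i)) &&
       decide (c₀.2.1 = 1 ∨ c₀.2.1 = -1) && decide (c₀.2.2.1 = 1 ∨ c₀.2.2.2 = 1) &&
       L₂.all (fun c => gdB D (-ε) i c.1)
   | [] => false) &&
  (D.commTerms (D.reflectRoot i a) (D.reflectRoot i b)).all fun c =>
    if ε = 1 then decide (D.IsNegRoot c.1) else decide (D.IsPosRoot c.1)

/-- witnesses for `witB`: for each fundamental root the pairs for `ε = 1` and `ε = -1` -/
def witTab (D : ChevalleyDatum) : List ((ℕ × ℕ) × (ℕ × ℕ)) :=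
  if D.nroots = 12 then [((2, 10), (1, 9)), ((0, 8), (0, 10))]
  else if D.nroots = 8 then [((1, 7), (0, 6)), ((0, 6), (1, 7))]
  else if D.nroots = 24 then [((6, 22), (1, 17)), ((1, 23), (0, 22)), ((3, 22), (1, 20)), ((2, 22), (1, 21))]
  else if D.nroots = 48 then [((7, 44), (3, 40)), ((3, 45), (2, 44)), ((0, 39), (1, 45)), ((1, 47), (0, 46))]
  else if D.nroots = 72 then [((16, 66), (5, 55)), ((1, 71), (0, 70)), ((5, 69), (2, 66)),
    ((2, 70), (1, 69)), ((3, 69), (2, 68)), ((4, 68), (3, 67))]
  else if D.nroots = 126 then [((1, 125), (0, 124)), ((7, 122), (3, 118)), ((2, 124), (1, 123)),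
    ((3, 123), (2, 122)), ((4, 122), (3, 121)), ((5, 121), (4, 120)), ((6, 120), (5, 119))]
  else [((14, 233), (6, 225)), ((7, 234), (5, 232)), ((6, 234), (5, 233)),
    ((5, 235), (4, 234)), ((4, 236), (3, 235)), ((3, 237), (2, 236)),
    ((2, 238), (1, 237)), ((1, 239), (0, 238))]

def witOK (D : ChevalleyDatum) : Bool :=
  (List.range D.rank).all fun i =>
    witB D 1 i ((witTab D).getD i ((0, 0), (0, 0))).1.1 ((witTab D).getD i ((0, 0), (0, 0))).1.2 &&
    witB D (-1) i ((witTab D).getD i ((0, 0), (0, 0))).2.1 ((witTab D).getD i ((0, 0), (0, 0))).2.2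

/-- all table checks of this file -/
def stOK (D : ChevalleyDatum) : Bool := ccOK D && gdOK D && witOK D

theorem stOK_G2 : stOK chevG2 = true := by decide +kernel
theorem stOK_B2 : stOK chevB2 = true := by decide +kernel
theorem stOK_D4 : stOK chevD4 = true := by decide +kernel
theorem stOK_F4 : stOK chevF4 = true := by decide +kernel
theorem stOK_E6 : stOK chevE6 = true := by decide +kernel
theorem stOK_E7 : stOK chevE7 = true := by decide +kernel
theorem stOK_E8 : stOK chevE8 = true := by decide +kernel

theorem stOK_of_mem {D : ChevalleyDatum}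
    (hD : D ∈ [chevG2, chevB2, chevD4, chevF4, chevE6, chevE7, chevE8]) : stOK D = true := by
  simp only [List.mem_cons, List.not_mem_nil, or_false] at hD
  rcases hD with rfl | rfl | rfl | rfl | rfl | rfl | rfl
  · exact stOK_G2
  · exact stOK_B2
  · exact stOK_D4
  · exact stOK_F4
  · exact stOK_E6
  · exact stOK_E7
  · exact stOK_E8

end Cfsg.Agent.Lib.Helper17
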