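import Cfsg.Agent.Lib.Helper17.UgTrick
import Cfsg.Agent.Lib.Helper17.UcMain

set_option autoImplicit false
set_option maxRecDepth 100000

/-! Table checks for type `F₄`. -/

namespace Cfsg.Agent.Lib.Helper17

open Cfsg.Lie Cfsg.Agent.Lib.Helper18

def abWF4 : List (ℕ × ℕ) :=
  [(1, 23), (0, 24), (0, 26), (7, 14), (0, 31), (0, 32), (1, 32), (3, 33), (3, 34), (3, 35), (3, 36), (3, 37),
  (3, 38), (3, 39), (3, 40), (0, 42), (0, 43), (1, 43), (7, 37), (7, 38), (7, 39), (0, 45), (1, 45), (0, 46),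
  (1, 47), (2, 46), (2, 47), (8, 40), (9, 40), (10, 40), (4, 46), (4, 47), (5, 47), (7, 44), (8, 44), (9, 44),
  (10, 44), (11, 44), (12, 44), (13, 44), (14, 44), (15, 46), (15, 47), (16, 47), (33, 40), (21, 47), (23,
  47), (24, 46)]

theorem abB_F4 : abB chevF4 abWF4 = true := by decide +kernel

theorem t2B4_F4 : t2B4 chevF4 = true := by decide +kernel

def excWF4 : List (ℕ × ℕ × ℕ × ℕ) :=
  [(0, 6, 10, 14), (0, 17, 10, 33), (0, 22, 12, 34), (0, 25, 13, 35), (0, 30, 14, 37), (0, 41, 33, 37), (1, 5,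
  9, 14), (1, 16, 9, 33), (1, 21, 11, 34), (1, 26, 13, 36), (1, 31, 14, 38), (1, 42, 33, 38), (2, 4, 8, 14),
  (2, 15, 8, 33), (2, 23, 11, 35), (2, 24, 12, 36), (2, 32, 14, 39), (2, 43, 33, 39), (4, 2, 7, 13), (4, 15,
  7, 34), (4, 23, 9, 37), (4, 24, 10, 38), (4, 32, 13, 40), (4, 45, 34, 40), (5, 1, 7, 12), (5, 16, 7, 35),
  (5, 21, 8, 37), (5, 26, 10, 39), (5, 31, 12, 40), (5, 46, 35, 40), (6, 0, 7, 11), (6, 17, 7, 36), (6, 22, 8,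
  38), (6, 25, 9, 39), (6, 30, 11, 40), (6, 47, 36, 40), (15, 2, 3, 20), (15, 4, 3, 27), (15, 23, 9, 37), (15,
  24, 10, 38), (15, 43, 20, 44), (15, 45, 27, 44), (16, 1, 3, 19), (16, 5, 3, 28), (16, 21, 8, 37), (16, 26,
  10, 39), (16, 42, 19, 44), (16, 46, 28, 44), (17, 0, 3, 18), (17, 6, 3, 29), (17, 22, 8, 38), (17, 25, 9,
  39), (17, 41, 18, 44), (17, 47, 29, 44), (21, 1, 3, 19), (21, 5, 3, 28), (21, 16, 7, 35), (21, 31, 12, 40),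
  (21, 42, 19, 44), (21, 46, 28, 44), (22, 0, 3, 18), (22, 6, 3, 29), (22, 17, 7, 36), (22, 30, 11, 40), (22,
  41, 18, 44), (22, 47, 29, 44), (23, 2, 3, 20), (23, 4, 3, 27), (23, 15, 7, 34), (23, 32, 13, 40), (23, 43,
  20, 44), (23, 45, 27, 44), (24, 2, 3, 20), (24, 4, 3, 27), (24, 15, 7, 34), (24, 32, 13, 40), (24, 43, 20,
  44), (24, 45, 27, 44), (25, 0, 3, 18), (25, 6, 3, 29), (25, 17, 7, 36), (25, 30, 11, 40), (25, 41, 18, 44),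
  (25, 47, 29, 44), (26, 1, 3, 19), (26, 5, 3, 28), (26, 16, 7, 35), (26, 31, 12, 40), (26, 42, 19, 44), (26,
  46, 28, 44), (30, 0, 3, 18), (30, 6, 3, 29), (30, 22, 8, 38), (30, 25, 9, 39), (30, 41, 18, 44), (30, 47,
  29, 44), (31, 1, 3, 19), (31, 5, 3, 28), (31, 21, 8, 37), (31, 26, 10, 39), (31, 42, 19, 44), (31, 46, 28,
  44), (32, 2, 3, 20), (32, 4, 3, 27), (32, 23, 9, 37), (32, 24, 10, 38), (32, 43, 20, 44), (32, 45, 27, 44),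
  (41, 0, 7, 11), (41, 17, 7, 36), (41, 22, 8, 38), (41, 25, 9, 39), (41, 30, 11, 40), (41, 47, 36, 40), (42,
  1, 7, 12), (42, 16, 7, 35), (42, 21, 8, 37), (42, 26, 10, 39), (42, 31, 12, 40), (42, 46, 35, 40), (43, 2,
  7, 13), (43, 15, 7, 34), (43, 23, 9, 37), (43, 24, 10, 38), (43, 32, 13, 40), (43, 45, 34, 40), (45, 4, 8,
  14), (45, 15, 8, 33), (45, 23, 11, 35), (45, 24, 12, 36), (45, 32, 14, 39), (45, 43, 33, 39), (46, 5, 9,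
  14), (46, 16, 9, 33), (46, 21, 11, 34), (46, 26, 13, 36), (46, 31, 14, 38), (46, 42, 33, 38), (47, 6, 10,
  14), (47, 17, 10, 33), (47, 22, 12, 34), (47, 25, 13, 35), (47, 30, 14, 37), (47, 41, 33, 37)]

theorem t2B3_F4 : t2B3 chevF4 excWF4 = true := by decide +kernel

def trWF4 : List (List ℕ) :=
  [[], [2, 1, 2, 0, 1, 2, 3, 2, 1, 2, 0, 1, 2, 3, 2, 1, 2, 0, 1, 2, 0, 1, 0], [3, 2, 0, 1, 2, 3, 2, 1, 2, 0,
  1, 0], [1, 2, 3, 2, 1, 2, 0, 1, 2, 3, 0, 1, 2], [0, 1, 2, 3, 1, 2, 0, 1, 2, 1, 0], [1, 2, 3, 2, 1, 2, 0, 1,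
  2, 3, 2, 1], [0, 1, 2, 3, 1, 2, 0, 1, 2, 3, 2, 0], [1, 2, 3, 2, 1, 2, 0, 1, 2, 1], [3, 2, 1, 2, 3, 1, 2, 1,
  0], [2, 0, 1, 2, 3, 2, 1, 2, 0, 1, 2, 3, 0, 1, 2, 0, 1], [2, 1, 2, 3, 2, 1, 2], [2, 3, 1, 2, 0, 1, 2, 3, 2,
  0, 1, 2, 1, 0], [1, 2, 3, 1, 2, 0, 1, 2, 3, 0, 1]]

theorem trOK_F4 : TrOK chevF4 :=
  trOK_of_check (tab_of_mem (by simp)) (WL := trWF4) (by decide +kernel)

end Cfsg.Agent.Lib.Helper17
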